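import Groth.Agent.L03.Frobun.CountBasic
import Mathlib.RingTheory.Ideal.Colon

/-!
# The degree bound and its equality case
-/

set_option autoImplicit false

namespace Groth.L03.Frobun

open MvPolynomial Groth.L12.GrCI

universe u

variable {k : Type u} [Field k] {n d : ℕ} {F : Fin (n + 1) → MvPolynomial (Fin (n + 1)) k}
  {ℓ : MvPolynomial (Fin (n + 1)) k} {K0 L0 : Type u} [Field K0] [Field L0] [Algebra k K0] [Algebra K0 L0]
  [Algebra k L0] [IsScalarTower k K0 L0] (M : Model F ℓ K0 L0)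

local notation "R'" => MvPolynomial (Fin (n + 1)) K0
local notation "ιm" => MvPolynomial.map (σ := Fin (n + 1)) (algebraMap k K0)
local notation "w₁" => (1 : Fin (n + 1) → ℕ)

variable (F) in
/-- A syzygy with an entry outside `q`. -/
def Syz (q : Ideal (MvPolynomial (Fin (n + 1)) k)) : Prop :=
  ∃ b : Fin (n + 1) → MvPolynomial (Fin (n + 1)) k, ∑ i, b i * F i = 0 ∧ ∃ i, b i ∉ q

/-- The equality case of the bound. -/
def Model.Tight : Prop :=
  ∃ u₁, ∀ u, u₁ ≤ u → ∀ a : R', a.IsHomogeneous u → M.Φ a = 0 → a ∈ extIdeal F K0 → a ∈ M.J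

/-- The degree bound, with its equality case. -/
theorem Model.bound (hd : 1 ≤ d) (hF : ∀ i, (F i).IsHomogeneous d) (hℓ : ℓ.IsHomogeneous 1)
    {N : ℕ} (hN : ∀ j, X j ^ N ∈ Ideal.span (Set.range F) ⊔ Ideal.span {ℓ}) {δ m₀ : ℕ}
    (hδ : ∀ u, m₀ ≤ u → Module.finrank k (piece w₁ (Ideal.span (Set.range F)) u) = δ) :
    Module.finrank K0 L0 + δ ≤ d ^ n ∧ (Module.finrank K0 L0 + δ = d ^ n ↔ M.Tight) := by
  classical
  obtain ⟨u₀, hJ⟩ := M.finrank_piece_J hd hF hℓ hN
  obtain ⟨v₀, hsurj⟩ := M.exists_preimage hℓ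
  have := M.fin
  let U := max (max u₀ m₀) (v₀ + d)
  let H := fun u => homogeneousSubmodule (Fin (n + 1)) K0 u
  let V := fun u => (H u ⊓ LinearMap.ker M.Φ.toLinearMap) ⊓ Submodule.restrictScalars K0 (extIdeal F K0)
  let W := fun u => Submodule.restrictScalars K0 M.J ⊓ H u
  have hle : ∀ u, W u ≤ V u := fun u a ha => ⟨⟨ha.2, M.Φ_eq_zero ha.1⟩, M.J_le ha.1⟩
  have key : ∀ u, U ≤ u → Module.finrank K0 L0 + δ + Module.finrank K0 (V u) = d ^ n + Module.finrank K0 (W u) := by
    intro u hu
    have : FiniteDimensional K0 (H u) := Module.Finite.iff_fg.2 (homogeneousSubmodule_fg _ K0 u)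
    let g₂ : H u →ₗ[K0] piece w₁ (extIdeal F K0) u :=
      ((Ideal.Quotient.mkₐ K0 (extIdeal F K0)).toLinearMap.comp (H u).subtype).codRestrict _
        fun a => ⟨a.1, a.2, rfl⟩
    let g := (M.Φ.toLinearMap.comp (H u).subtype).prod g₂
    have hg : Function.Surjective g := by
      rintro ⟨y, z⟩
      obtain ⟨b, hb, hbz⟩ := mem_piece.1 z.2
      obtain ⟨c, hc, hΦc⟩ := hsurj (u - d) (by omega) ((y - M.Φ b) / aeval M.xx (F 0))
      have hhom : (ιm (F 0) * c).IsHomogeneous u := by
        have := ((hF 0).map (algebraMap k K0)).mul hc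
        rwa [show d + (u - d) = u by omega] at this
      refine ⟨⟨b + ιm (F 0) * c, IsHomogeneous.add hb hhom⟩, Prod.ext ?_ (Subtype.ext ?_)⟩
      · show M.Φ (b + ιm (F 0) * c) = y
        rw [map_add, map_mul, hΦc, M.Φ_map, mul_div_cancel₀ _ M.map_zero_ne, add_sub_cancel]
      · show Ideal.Quotient.mk _ (b + ιm (F 0) * c) = z.1
        rw [← hbz, Ideal.Quotient.eq, add_sub_cancel_left]
        exact Ideal.mul_mem_right _ _ (Ideal.subset_span ⟨_, ⟨0, rfl⟩, rfl⟩)
    have hker : LinearMap.ker g = (V u).comap (H u).subtype := by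
      ext ⟨a, ha⟩
      simp only [g, g₂, V, LinearMap.mem_ker, Submodule.mem_comap, Submodule.subtype_apply, Submodule.mem_inf,
        LinearMap.prod_apply, Submodule.restrictScalars_mem]
      rw [← Ideal.Quotient.eq_zero_iff_mem (I := extIdeal F K0)]
      exact ⟨fun h => ⟨⟨ha, congrArg Prod.fst h⟩, congrArg (fun z => (Prod.snd z).1) h⟩, fun h => Prod.ext h.1.2 (Subtype.ext h.2)⟩
    have := piece_fd (F := K0) (w := w₁) (fun _ => one_pos) (extIdeal F K0) u
    have h1 := g.finrank_range_add_finrank_ker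
    rw [LinearMap.range_eq_top.2 hg, finrank_top, Module.finrank_prod,
      finrank_piece_ext (hδ u (le_of_max_le_right (le_of_max_le_left hu))), hker,
      LinearEquiv.finrank_eq (Submodule.comapSubtypeEquivOfLe
        ((inf_le_left.trans inf_le_left : V u ≤ H u)))] at h1
    change _ + Module.finrank K0 (V u) = Module.finrank K0 (H u) at h1
    have h2 : _ + Module.finrank K0 (W u) = Module.finrank K0 (H u) := finrank_piece_add M.J u
    rw [hJ u (le_of_max_le_left (le_of_max_le_left hu))] at h2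
    omega
  have hfd : ∀ u, FiniteDimensional K0 (V u) := fun u => by
    have : FiniteDimensional K0 (H u) := Module.Finite.iff_fg.2 (homogeneousSubmodule_fg _ K0 u)
    exact Submodule.finiteDimensional_of_le (inf_le_left.trans inf_le_left : V u ≤ H u)
  refine ⟨?_, fun h => ⟨U, fun u hu a ha hΦ hI => ?_⟩, fun ⟨u₁, h⟩ => ?_⟩
  · have := key U le_rfl
    have := hfd U
    have := Submodule.finrank_mono (hle U)
    omega
  · have := key u hu
    have := hfd u
    have e := Submodule.eq_of_le_of_finrank_eq (hle u) (by omega)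
    have hmem : a ∈ V u := ⟨⟨ha, hΦ⟩, hI⟩
    rw [← e] at hmem
    exact hmem.1
  · have h1 := key (max U u₁) (le_max_left _ _)
    have e : V (max U u₁) = W (max U u₁) :=
      le_antisymm (fun a ha => ⟨h _ (le_max_right _ _) a ha.1.1 ha.1.2 ha.2, ha.1.1⟩) (hle _)
    rw [e] at h1
    omega

theorem pt_map (a : Fin (n + 1) → k) (r : MvPolynomial (Fin (n + 1)) k) :
    pt (fun j => algebraMap k K0 (a j)) (ιm r) = (pt a r).map (algebraMap k K0) := by
  induction r using MvPolynomial.induction_on with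
  | C x => simp [pt]
  | add p q hp hq => simp only [map_add, Polynomial.map_add, hp, hq]
  | mul_X p j hp => simp only [map_mul, Polynomial.map_mul, hp, map_X]; simp [pt]

theorem Model.syz_of_tight (hF : ∀ i, (F i).IsHomogeneous d) (hℓ : ℓ.IsHomogeneous 1) (hT : M.Tight)
    {q : Ideal (MvPolynomial (Fin (n + 1)) k)} {a : Fin (n + 1) → k} (haℓ : eval a ℓ = 1)
    (hq : q = RingHom.ker (pt a)) (hIq : Ideal.span (Set.range F) ≤ q) : Syz F q := by
  classical
  obtain ⟨u₁, hT⟩ := hT
  have := M.fin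
  set φ : L0 := aeval M.xx (F 0)
  have hint := Algebra.IsIntegral.isIntegral (R := K0) φ
  set p := minpoly K0 φ
  set e := p.natDegree
  let term := fun i => C (p.coeff i) * ιm (F 0) ^ i * ιm ℓ ^ (d * (e - i))
  let h := ∑ i ∈ Finset.range (e + 1), term i
  have hhom : h.IsHomogeneous (d * e) := IsHomogeneous.sum _ _ _ fun i hi => by
    have h := (((isHomogeneous_C _ (p.coeff i)).mul (((hF 0).map (algebraMap k K0)).pow i))).mul
      ((hℓ.map (algebraMap k K0)).pow (d * (e - i)))
    rwa [show 0 + d * i + 1 * (d * (e - i)) = d * e by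
      rw [zero_add, one_mul, ← mul_add]; congr 1; have := Finset.mem_range.1 hi; omega] at h
  have hΦ : M.Φ h = 0 := by
    rw [← minpoly.aeval K0 φ, Polynomial.aeval_eq_sum_range, map_sum]
    refine Finset.sum_congr rfl fun i _ => ?_
    simp only [term, map_mul, map_pow, M.Φ_line, one_pow, mul_one, aeval_C, M.Φ_map, Algebra.smul_def, p, φ]
  let ev := pt (fun j => algebraMap k K0 (a j))
  have hFq : ∀ i, pt a (F i) = 0 := fun i => by
    have := hIq (Ideal.subset_span ⟨i, rfl⟩)
    rwa [hq, RingHom.mem_ker] at this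
  have hevℓ : ev (ιm ℓ) = Polynomial.X := by simp only [ev, pt_map, pt_aux a hℓ haℓ, Polynomial.map_X]
  have hevh : ev h = Polynomial.C (p.coeff 0) * Polynomial.X ^ (d * e) := by
    simp only [h, map_sum]
    rw [Finset.sum_eq_single 0]
    · simp only [term, pow_zero, mul_one, map_mul, map_pow, hevℓ, Nat.sub_zero]
      simp [ev, pt]
    · intro i _ hi
      simp only [term, map_mul, map_pow]
      rw [show ev (ιm (F 0)) = 0 by simp only [ev, pt_map, hFq, Polynomial.map_zero], zero_pow hi, mul_zero, zero_mul]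
    · simp
  let x := ιm ℓ ^ u₁ * h
  have hmem : x * ιm (F 0) ∈ M.J := by
    refine hT (u₁ + d * e + d) (by omega) _ ?_ ?_ (Ideal.mul_mem_left _ _ (Ideal.subset_span ⟨_, ⟨0, rfl⟩, rfl⟩))
    · simpa [x] using (((hℓ.map (algebraMap k K0)).pow u₁).mul hhom).mul ((hF 0).map (algebraMap k K0))
    · rw [map_mul, map_mul, hΦ, mul_zero, zero_mul]
  obtain ⟨b, hb⟩ := (Submodule.mem_span_range_iff_exists_fun R').1 hmem
  let c : Fin (n + 1) → R' := Fin.cons (x + ∑ i, b i * C (M.lam i)) fun i => -b i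
  have hc : ∑ i, c i * ιm (F i) = 0 := by
    rw [Fin.sum_univ_succ]
    simp only [c, Fin.cons_zero, Fin.cons_succ, add_mul, ← hb, Finset.sum_mul, smul_eq_mul, Model.G]
    rw [← Finset.sum_add_distrib, ← Finset.sum_add_distrib]
    exact Finset.sum_eq_zero fun i _ => by ring
  obtain ⟨i, hi⟩ : ∃ i, ev (c i) ≠ 0 := by
    by_contra hcon
    push Not at hcon
    have hbi : ∀ i, ev (b i) = 0 := fun i => by simpa [c] using hcon i.succ
    have h0 := hcon 0
    simp only [c, Fin.cons_zero, map_add, map_sum, map_mul, hbi, zero_mul, Finset.sum_const_zero, add_zero, x,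
      map_pow, hevℓ, hevh] at h0
    simp only [mul_eq_zero, pow_eq_zero_iff', Polynomial.X_ne_zero, false_and, or_false, false_or, Polynomial.C_eq_zero] at h0
    exact minpoly.coeff_zero_ne_zero hint M.map_zero_ne h0
  obtain ⟨u, hu⟩ : ∃ u, (ev (c i)).coeff u ≠ 0 := by
    by_contra hcon; push Not at hcon; exact hi (Polynomial.ext (by simpa using hcon))
  obtain ⟨π, hπ⟩ := exists_ne_zero (k := k) hu
  refine ⟨fun j => cw π (c j), ?_, i, fun hiq => hπ ?_⟩
  · have := congrArg (cw π) hc
    rw [map_zero, map_sum] at this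
    rw [← this]
    exact Finset.sum_congr rfl fun j _ => by rw [mul_comm (c j), cw_map_mul, mul_comm]
  · rw [hq, RingHom.mem_ker] at hiq
    rw [pt_cw, hiq, Polynomial.coeff_zero]

theorem Model.tight_of_syz (hF : ∀ i, (F i).IsHomogeneous d) (hℓ : ℓ.IsHomogeneous 1)
    (hbad : ∀ q ∈ (Ideal.span (Set.range F)).minimalPrimes, ℓ ∈ q → ∀ j, X j ∈ q)
    (hpt : ∀ q ∈ (Ideal.span (Set.range F)).minimalPrimes, ℓ ∉ q →
      ∃ a : Fin (n + 1) → k, eval a ℓ = 1 ∧ q = RingHom.ker (pt a))
    (hsyz : ∀ q ∈ (Ideal.span (Set.range F)).minimalPrimes, ℓ ∉ q → Syz F q) : M.Tight := by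
  classical
  let Qs : Set R' := {a | M.Φ a = 0 ∧ a ∈ extIdeal F K0 ∧ ∃ u, a.IsHomogeneous u}
  let Cid : Ideal R' :=
    { carrier := {r | ∀ a ∈ Qs, r * a ∈ M.J}
      add_mem' := fun hr hs a ha => by rw [add_mul]; exact add_mem (hr a ha) (hs a ha)
      zero_mem' := fun a _ => by rw [zero_mul]; exact zero_mem _
      smul_mem' := fun c r hr a ha => by rw [smul_eq_mul, mul_assoc]; exact M.J.mul_mem_left c (hr a ha) }
  have hJC : M.J ≤ Cid := fun r hr a _ => Ideal.mul_mem_right _ _ hr
  have hC : Homog w₁ Cid := by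
    intro r hr v a ha
    obtain ⟨u, hu⟩ := ha.2.2
    have h := M.homog_J hF _ (hr a ha) (u + v)
    rw [mul_comm r, comp_mul hu, if_pos le_self_add, Nat.add_sub_cancel_left, mul_comm] at h
    exact h
  obtain ⟨s', hs', hspan⟩ := (Submodule.fg_span_iff_fg_span_finset_subset Qs).1
    (IsNoetherian.noetherian (Ideal.span Qs : Ideal R'))
  have hmemQ : ∀ a ∈ Qs, a ∈ Submodule.span R' (s' : Set R') := fun a ha => hspan ▸ Submodule.subset_span ha
  choose deg hdeg using fun (a : R') (ha : a ∈ Qs) => ha.2.2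
  choose ex hex using fun (a : R') (ha : a ∈ Qs) => M.clear hF (hdeg a ha) ha.1
  let N := s'.attach.sup fun g => ex g.1 (hs' g.2)
  have hF0C : ιm (F 0) ^ N ∈ Cid := by
    intro a ha
    obtain ⟨r, hr⟩ := Submodule.mem_span_finset'.1 (hmemQ a ha)
    rw [← hr, Finset.mul_sum]
    refine Ideal.sum_mem _ fun g _ => ?_
    rw [smul_eq_mul, mul_left_comm]
    exact Ideal.mul_mem_left _ _ (by
      have hle : ex g.1 (hs' g.2) ≤ N :=
        Finset.le_sup (f := fun g : {x // x ∈ s'} => ex g.1 (hs' g.2)) (Finset.mem_attach _ g)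
      rw [← Nat.sub_add_cancel hle, pow_add, mul_assoc]
      exact Ideal.mul_mem_left _ _ (hex g.1 (hs' g.2)))
  have hfin : Module.Finite K0 (R' ⧸ Cid) := by
    refine finite_quotient_of_isMaximal _ fun P hP hle => ?_
    have hF0 := hP.mem_of_pow_mem _ (hle hF0C)
    have hIP : Ideal.span (Set.range F) ≤ P.comap ιm := Ideal.span_le.2 (by
      rintro _ ⟨i, rfl⟩
      refine Fin.cases hF0 (fun i => ?_) i
      have h := P.add_mem (hle (hJC (Ideal.subset_span ⟨i, rfl⟩))) (P.mul_mem_left (C (M.lam i)) hF0)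
      simpa [Model.G] using h)
    have := Ideal.comap_isPrime ιm P
    obtain ⟨q, hq, hqP⟩ := Ideal.exists_minimalPrimes_le hIP
    by_cases hℓq : ℓ ∈ q
    · exact isMaximal_of_X_mem hP.ne_top fun j => by
        have := hqP (hbad q hq hℓq j); rwa [Ideal.mem_comap, map_X] at this
    obtain ⟨a, haℓ, hqa⟩ := hpt q hq hℓq
    obtain ⟨b, hb, i, hi⟩ := hsyz q hq hℓq
    let a' := fun j => algebraMap k K0 (a j)
    let s := ιm (b 0) + ∑ j, C (M.lam j) * ιm (b j.succ)
    have hsF : s * ιm (F 0) ∈ M.J := by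
      have : s * ιm (F 0) = -∑ j, ιm (b j.succ) * M.G j := by
        have h := congrArg ιm hb
        rw [map_zero, map_sum, Fin.sum_univ_succ] at h
        simp only [map_mul] at h
        simp only [s, Model.G, add_mul, Finset.sum_mul, mul_sub, Finset.sum_sub_distrib]
        rw [eq_neg_iff_add_eq_zero, ← h, Finset.sum_congr rfl fun j _ => show
          ιm (b j.succ) * (C (M.lam j) * ιm (F 0)) = C (M.lam j) * ιm (b j.succ) * ιm (F 0) by ring]
        ring
      rw [this]
      exact neg_mem (Ideal.sum_mem _ fun j _ => Ideal.mul_mem_left _ _ (Ideal.subset_span ⟨j, rfl⟩))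
    have hsI : ∀ x ∈ extIdeal F K0, s * x ∈ M.J := by
      intro x hx
      induction hx using Submodule.span_induction with
      | mem x hx =>
        obtain ⟨_, ⟨i, rfl⟩, rfl⟩ := hx
        refine Fin.cases hsF (fun i => ?_) i
        have h := M.J.add_mem (M.J.mul_mem_left s (Ideal.subset_span ⟨i, rfl⟩ : M.G i ∈ M.J))
          (M.J.mul_mem_left (C (M.lam i)) hsF)
        rwa [show s * M.G i + C (M.lam i) * (s * ιm (F 0)) = s * ιm (F i.succ) by rw [Model.G]; ring] at h
      | zero => rw [mul_zero]; exact zero_mem _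
      | add x y _ _ hx hy => rw [mul_add]; exact add_mem hx hy
      | smul r x _ hx => rw [smul_eq_mul, mul_left_comm]; exact M.J.mul_mem_left r hx
    have hsC : s ∈ Cid := fun x hx => hsI x hx.2.1
    have hker : RingHom.ker (pt a') ≤ P := by
      intro f hf
      refine (Ideal.span_le.2 ?_) (mem_span_of_pt_eq_zero a' (ιm ℓ) hf)
      rintro _ ⟨j, rfl⟩
      have hmem : X j - C (a j) * ℓ ∈ q := by
        rw [hqa, RingHom.mem_ker, map_sub, map_mul, pt_aux a hℓ haℓ]
        rw [pt, aeval_X, aeval_C, Polynomial.algebraMap_eq, mul_comm, sub_self]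
      have := hqP hmem
      rw [Ideal.mem_comap, map_sub, map_mul, map_X, map_C] at this
      exact this
    refine isMaximal_of_pt a' (ℓ := ιm ℓ) ?_ hker (hle hsC) ?_
    · simp only [a', pt_map, pt_aux a hℓ haℓ, Polynomial.map_X]
    · intro h0
      rw [hqa, RingHom.mem_ker] at hi
      obtain ⟨u, hu⟩ : ∃ u, (pt a (b i)).coeff u ≠ 0 := by
        by_contra hcon; push Not at hcon; exact hi (Polynomial.ext (by simpa using hcon))
      have h1 := congrArg (fun f => f.coeff u) h0
      simp only [s, a', map_add, map_sum, map_mul, pt_map, Polynomial.coeff_add, Polynomial.finsetSum_coeff,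
        Polynomial.coeff_zero, Polynomial.coeff_map] at h1
      have h2 := M.li ((pt a (b 0)).coeff u) (fun j => (pt a (b j.succ)).coeff u) (by
        rw [← h1]
        congr 1
        refine Finset.sum_congr rfl fun j _ => ?_
        rw [show pt (fun j => algebraMap k K0 (a j)) (C (M.lam j)) = Polynomial.C (M.lam j) by simp [pt],
          Polynomial.coeff_C_mul, Polynomial.coeff_map, mul_comm])
      exact hu (Fin.cases h2.1 h2.2 i)
  obtain ⟨e, he⟩ := exists_pow_mem_of_finite hC hfin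
  let D := s'.attach.sup fun g => deg g.1 (hs' g.2)
  refine ⟨D + Fintype.card (Fin (n + 1)) * e + 1, fun u hu a ha hΦ hI => ?_⟩
  obtain ⟨r, hr⟩ := Submodule.mem_span_finset'.1 (hmemQ a ⟨hΦ, hI, u, ha⟩)
  rw [← homogeneousComponent_eq_self ha, ← hr, map_sum]
  refine Ideal.sum_mem _ fun g _ => ?_
  have hg := hs' g.2
  have hD : deg g.1 hg ≤ D := Finset.le_sup (f := fun g : {x // x ∈ s'} => deg g.1 (hs' g.2)) (Finset.mem_attach _ g)
  rw [smul_eq_mul, mul_comm,
    show homogeneousComponent u (g.1 * r g) = weightedHomogeneousComponent w₁ u (g.1 * r g) from rfl,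
    comp_mul (hdeg g.1 hg), if_pos (by omega), mul_comm]
  exact mem_of_pow_mem he (show Fintype.card (Fin (n + 1)) * e < u - deg g.1 hg by omega)
    (weightedHomogeneousComponent_isWeightedHomogeneous _ _) g.1 hg

end Groth.L03.Frobun
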