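import Groth.Agent.L03.Frobun.Graded
import Mathlib.LinearAlgebra.Dual.Lemmas

/-!
# Extension of scalars for polynomial rings
-/

set_option autoImplicit false

namespace Groth.L03.Frobun

open MvPolynomial

universe u v

variable {σ : Type v} {k K : Type u} [Field k] [Field K] [Algebra k K]

theorem coeff_sum_support (π : K →ₗ[k] k) (f : MvPolynomial σ K) (s : σ →₀ ℕ) :
    coeff s (∑ t ∈ f.support, monomial t (π (coeff t f))) = π (coeff s f) := by
  classical
  simp only [coeff_sum, coeff_monomial, Finset.sum_ite_eq', mem_support_iff, ne_eq]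
  split_ifs <;> simp_all

/-- Apply a functional to all coefficients. -/
noncomputable def cw (π : K →ₗ[k] k) : MvPolynomial σ K →ₗ[k] MvPolynomial σ k where
  toFun f := ∑ s ∈ f.support, monomial s (π (coeff s f))
  map_add' f g := by
    ext m
    rw [coeff_add, coeff_sum_support, coeff_sum_support, coeff_sum_support, coeff_add, map_add]
  map_smul' c f := by
    ext m
    rw [RingHom.id_apply, coeff_smul, coeff_sum_support, coeff_sum_support, coeff_smul, map_smul]

@[simp]
theorem coeff_cw (π : K →ₗ[k] k) (f : MvPolynomial σ K) (s : σ →₀ ℕ) : coeff s (cw π f) = π (coeff s f) :=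
  coeff_sum_support π f s

theorem cw_map_mul (π : K →ₗ[k] k) (r : MvPolynomial σ k) (h : MvPolynomial σ K) :
    cw π (map (algebraMap k K) r * h) = r * cw π h := by
  classical
  ext m
  simp only [coeff_cw, coeff_mul, coeff_map, map_sum, ← Algebra.smul_def, map_smul, smul_eq_mul]

theorem cw_C_mul (π : K →ₗ[k] k) (c : K) (h : MvPolynomial σ K) :
    cw π (C c * h) = cw (π.comp (LinearMap.mulLeft k c)) h := by
  classical
  ext m; simp

theorem cw_map (π : K →ₗ[k] k) (r : MvPolynomial σ k) : cw π (map (algebraMap k K) r) = π 1 • r := by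
  classical
  ext m
  rw [coeff_cw, coeff_map, Algebra.algebraMap_eq_smul_one, map_smul, coeff_smul, smul_eq_mul, smul_eq_mul, mul_comm]

theorem isHomogeneous_cw (π : K →ₗ[k] k) {f : MvPolynomial σ K} {u : ℕ} (hf : f.IsHomogeneous u) :
    (cw π f).IsHomogeneous u := fun s hs => hf (fun h => hs (by simp [h]))

theorem exists_ne_zero {c : K} (hc : c ≠ 0) : ∃ π : K →ₗ[k] k, π c ≠ 0 := by
  by_contra h
  push Not at h
  exact hc ((Module.forall_dual_apply_eq_zero_iff k c).1 h)

theorem cw_eq_zero {f : MvPolynomial σ K} (h : ∀ π : K →ₗ[k] k, cw π f = 0) : f = 0 := by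
  ext s
  rw [coeff_zero]
  by_contra hs
  obtain ⟨π, hπ⟩ := exists_ne_zero (k := k) hs
  exact hπ (by rw [← coeff_cw, h π, coeff_zero])

theorem exists_decomp (h : MvPolynomial σ K) :
    ∃ (m : ℕ) (c : Fin m → K) (π : Fin m → (K →ₗ[k] k)), h = ∑ i, C (c i) * map (algebraMap k K) (cw (π i) h) := by
  classical
  let V := Submodule.span k (↑(h.support.image fun s => coeff s h) : Set K)
  have : FiniteDimensional k V := FiniteDimensional.span_finset k _
  let b := Module.finBasis k V
  choose π hπ using fun i => LinearMap.exists_extend (p := V) (b.coord i)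
  refine ⟨_, fun i => (b i : K), π, ?_⟩
  ext s
  simp only [coeff_sum, coeff_C_mul, coeff_map, coeff_cw]
  have hV : coeff s h ∈ V := by
    by_cases hs : coeff s h = 0
    · rw [hs]; exact zero_mem _
    · exact Submodule.subset_span (Finset.mem_coe.2 (Finset.mem_image_of_mem _ (mem_support_iff.2 hs)))
  have h1 := congrArg Subtype.val (b.sum_repr ⟨_, hV⟩)
  simp only [AddSubmonoidClass.coe_finsetSum, SetLike.val_smul] at h1
  conv_lhs => rw [← h1]
  refine Finset.sum_congr rfl fun i _ => ?_
  have h2 := LinearMap.congr_fun (hπ i) ⟨_, hV⟩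
  simp only [LinearMap.comp_apply, Submodule.subtype_apply, Module.Basis.coord_apply] at h2
  rw [h2, Algebra.smul_def, mul_comm]

variable (K) in
/-- Extension of scalars of a space of polynomials. -/
noncomputable def ext (V : Submodule k (MvPolynomial σ k)) : Submodule K (MvPolynomial σ K) :=
  Submodule.span K (map (algebraMap k K) '' (V : Set (MvPolynomial σ k)))

theorem mem_ext_iff {V : Submodule k (MvPolynomial σ k)} {h : MvPolynomial σ K} :
    h ∈ ext K V ↔ ∀ π : K →ₗ[k] k, cw π h ∈ V := by
  refine ⟨fun hh => ?_, fun hh => ?_⟩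
  · induction hh using Submodule.span_induction with
    | mem x hx => obtain ⟨y, hy, rfl⟩ := hx; intro π; rw [cw_map]; exact V.smul_mem _ hy
    | zero => intro π; simp
    | add x y _ _ hx hy => intro π; rw [map_add]; exact add_mem (hx π) (hy π)
    | smul c x _ hx => intro π; rw [smul_eq_C_mul, cw_C_mul]; exact hx _
  · obtain ⟨m, c, π, hd⟩ := exists_decomp (k := k) h
    rw [hd]
    refine Submodule.sum_mem _ fun i _ => ?_
    rw [← smul_eq_C_mul]
    exact Submodule.smul_mem _ _ (Submodule.subset_span (Set.mem_image_of_mem _ (hh (π i))))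

theorem finrank_ext (V : Submodule k (MvPolynomial σ k)) [FiniteDimensional k V] :
    Module.finrank K (ext K V) = Module.finrank k V := by
  classical
  let b := Module.finBasis k V
  let v : Fin (Module.finrank k V) → MvPolynomial σ K := fun i => map (algebraMap k K) (b i : MvPolynomial σ k)
  have hspan : ext K V = Submodule.span K (Set.range v) := by
    refine le_antisymm (Submodule.span_le.2 ?_) (Submodule.span_le.2 ?_)
    · rintro _ ⟨y, hy, rfl⟩
      have h1 := congrArg Subtype.val (b.sum_repr ⟨y, hy⟩)
      simp only [AddSubmonoidClass.coe_finsetSum, SetLike.val_smul] at h1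
      rw [← h1, map_sum]
      refine Submodule.sum_mem _ fun i _ => ?_
      rw [smul_eq_C_mul, map_mul, map_C, ← smul_eq_C_mul]
      exact Submodule.smul_mem _ _ (Submodule.subset_span ⟨i, rfl⟩)
    · rintro _ ⟨i, rfl⟩
      exact Submodule.subset_span (Set.mem_image_of_mem _ (b i).2)
  have hli : LinearIndependent K v := by
    refine Fintype.linearIndependent_iff.2 fun g hg i => ?_
    by_contra hi
    obtain ⟨π, hπ⟩ := exists_ne_zero (k := k) hi
    refine hπ (Fintype.linearIndependent_iff.1 b.linearIndependent (fun j => π (g j)) ?_ i)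
    refine Subtype.ext ?_
    rw [AddSubmonoidClass.coe_finsetSum, ZeroMemClass.coe_zero, ← map_zero (cw (σ := σ) π), ← hg, map_sum]
    refine Finset.sum_congr rfl fun j _ => ?_
    rw [show g j • v j = C (g j) * v j from smul_eq_C_mul _ _, cw_C_mul, cw_map]
    simp [smul_eq_C_mul]
  rw [hspan, finrank_span_eq_card hli, Fintype.card_fin]

theorem ext_homogeneous (u : ℕ) : ext K (homogeneousSubmodule σ k u) = homogeneousSubmodule σ K u := by
  refine SetLike.ext fun h => mem_ext_iff.trans ⟨fun hh s hs => ?_, fun hh π => isHomogeneous_cw π hh⟩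
  obtain ⟨π, hπ⟩ := exists_ne_zero (k := k) hs
  exact hh π (by rwa [coeff_cw])

theorem mem_span_map_iff {S : Set (MvPolynomial σ k)} {h : MvPolynomial σ K} :
    h ∈ Ideal.span (map (algebraMap k K) '' S) ↔ ∀ π : K →ₗ[k] k, cw π h ∈ Ideal.span S := by
  refine ⟨fun hh => ?_, fun hh => ?_⟩
  · induction hh using Submodule.span_induction with
    | mem x hx =>
      obtain ⟨y, hy, rfl⟩ := hx
      intro π
      rw [cw_map, smul_eq_C_mul]
      exact Ideal.mul_mem_left _ _ (Ideal.subset_span hy)
    | zero => intro π; simp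
    | add x y _ _ hx hy => intro π; rw [map_add]; exact add_mem (hx π) (hy π)
    | smul a x _ hx =>
      intro π
      obtain ⟨m, c, p, hd⟩ := exists_decomp (k := k) a
      rw [smul_eq_mul, hd, Finset.sum_mul, map_sum]
      refine Submodule.sum_mem _ fun i _ => ?_
      rw [mul_assoc, cw_C_mul, cw_map_mul]
      exact Ideal.mul_mem_left _ _ (hx _)
  · obtain ⟨m, c, π, hd⟩ := exists_decomp (k := k) h
    rw [hd]
    refine Submodule.sum_mem _ fun i _ => Ideal.mul_mem_left _ _ ?_
    have := Ideal.mem_map_of_mem (map (algebraMap k K)) (hh (π i))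
    rwa [Ideal.map_span] at this

theorem pt_cw (π : K →ₗ[k] k) (a : σ → k) (h : MvPolynomial σ K) (u : ℕ) :
    π ((pt (fun j => algebraMap k K (a j)) h).coeff u) = (pt a (cw π h)).coeff u := by
  obtain ⟨m, c, p, hd⟩ := exists_decomp (k := k) h
  have hm : ∀ r : MvPolynomial σ k, pt (fun j => algebraMap k K (a j)) (map (algebraMap k K) r) =
      (pt a r).map (algebraMap k K) := by
    intro r
    induction r using MvPolynomial.induction_on with
    | C x => simp [pt]
    | add p q hp hq => simp only [map_add, Polynomial.map_add, hp, hq]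
    | mul_X p j hp => simp only [map_mul, Polynomial.map_mul, hp, map_X]; simp [pt]
  conv_lhs => rw [hd]
  conv_rhs => rw [hd]
  simp only [map_sum, Polynomial.finsetSum_coeff]
  refine Finset.sum_congr rfl fun i _ => ?_
  rw [map_mul, hm, cw_C_mul, cw_map, show pt (fun j => algebraMap k K (a j)) (C (c i)) = Polynomial.C (c i) by simp [pt],
    Polynomial.coeff_C_mul, Polynomial.coeff_map, map_smul, Polynomial.coeff_smul, mul_comm, ← Algebra.smul_def,
    map_smul]
  simp [mul_comm]

end Groth.L03.Frobun
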