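import Groth.Agent.L03.Frobun.Moving
import Groth.Agent.L03.Frobun.Scalars
import Groth.Agent.L12.GrCI.Regular
import Mathlib.RingTheory.PowerSeries.WellKnown

/-!
# The moving complete intersection
-/

set_option autoImplicit false

namespace Groth.L03.Frobun

open MvPolynomial Groth.L12.GrCI

universe u

variable {k : Type u} [Field k] {n d : ℕ} {F : Fin (n + 1) → MvPolynomial (Fin (n + 1)) k}
  {ℓ : MvPolynomial (Fin (n + 1)) k} {K0 L0 : Type u} [Field K0] [Field L0] [Algebra k K0] [Algebra K0 L0]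
  [Algebra k L0] [IsScalarTower k K0 L0] (M : Model F ℓ K0 L0)

local notation "R'" => MvPolynomial (Fin (n + 1)) K0
local notation "ιm" => MvPolynomial.map (σ := Fin (n + 1)) (algebraMap k K0)
local notation "w₁" => (1 : Fin (n + 1) → ℕ)

variable (F K0) in
/-- The extended ideal. -/
noncomputable def extIdeal : Ideal R' := Ideal.span (ιm '' Set.range F)

/-- The moving equations. -/
noncomputable def Model.G (i : Fin n) : R' := ιm (F i.succ) - C (M.lam i) * ιm (F 0)

/-- The ideal of the moving complete intersection. -/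
noncomputable def Model.J : Ideal R' := Ideal.span (Set.range M.G)

/-- Evaluation at the generic point. -/
noncomputable abbrev Model.Φ : R' →ₐ[K0] L0 := aeval M.xx

theorem Model.Φ_map (r : MvPolynomial (Fin (n + 1)) k) : M.Φ (ιm r) = aeval M.xx r :=
  aeval_map_algebraMap K0 M.xx r

theorem Model.Φ_line : M.Φ (ιm ℓ) = 1 := by rw [M.Φ_map, M.map_line]

theorem Model.Φ_eq_zero {x : R'} (hx : x ∈ M.J) : M.Φ x = 0 := by
  have : M.J ≤ RingHom.ker M.Φ := Ideal.span_le.2 (by
    rintro _ ⟨i, rfl⟩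
    rw [SetLike.mem_coe, RingHom.mem_ker, Model.G, map_sub, map_mul, M.Φ_map, M.Φ_map, M.map_succ, aeval_C, sub_self])
  exact this hx

theorem Model.J_le : M.J ≤ extIdeal F K0 := Ideal.span_le.2 (by
  rintro _ ⟨i, rfl⟩
  exact sub_mem (Ideal.subset_span ⟨_, ⟨_, rfl⟩, rfl⟩) (Ideal.mul_mem_left _ _ (Ideal.subset_span ⟨_, ⟨_, rfl⟩, rfl⟩)))

theorem Model.G_homog (hF : ∀ i, (F i).IsHomogeneous d) (i : Fin n) : (M.G i).IsHomogeneous d :=
  ((hF _).map _).sub (((hF 0).map _).C_mul _)

theorem Model.homog_J (hF : ∀ i, (F i).IsHomogeneous d) : Homog w₁ M.J :=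
  homog_span (by rintro _ ⟨i, rfl⟩; exact ⟨d, M.G_homog hF i⟩)

theorem map_homogeneousComponent (u : ℕ) (r : MvPolynomial (Fin (n + 1)) k) :
    homogeneousComponent u (ιm r) = ιm (homogeneousComponent u r) := by
  classical
  ext s
  simp [coeff_homogeneousComponent, coeff_map, apply_ite (algebraMap k K0)]

/-- Relations at the generic point are in the moving complete intersection up to powers of `F 0`. -/
theorem Model.clear (hF : ∀ i, (F i).IsHomogeneous d) {u : ℕ} {h : R'} (hh : h.IsHomogeneous u)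
    (hΦ : M.Φ h = 0) : ∃ N, ιm (F 0) ^ N * h ∈ M.J := by
  classical
  let f0 := ιm (F 0)
  let π := Ideal.Quotient.mk M.J
  let W : Subring (R' ⧸ M.J) := (π.comp ιm).range
  have hf0 : π f0 ∈ W := ⟨F 0, rfl⟩
  have hA : ∀ c ∈ Algebra.adjoin k (Set.range M.lam), ∃ N, π (f0 ^ N * C c) ∈ W := by
    intro c hc
    induction hc using Algebra.adjoin_induction with
    | mem x hx =>
      obtain ⟨i, rfl⟩ := hx
      refine ⟨1, F i.succ, ?_⟩
      rw [RingHom.comp_apply, Ideal.Quotient.eq, pow_one, mul_comm f0]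
      exact Ideal.subset_span ⟨i, rfl⟩
    | algebraMap r => exact ⟨0, C r, by simp [π]⟩
    | add x y _ _ hx hy =>
      obtain ⟨N, hN⟩ := hx; obtain ⟨N', hN'⟩ := hy
      refine ⟨N + N', ?_⟩
      rw [show f0 ^ (N + N') * C (x + y) = f0 ^ N' * (f0 ^ N * C x) + f0 ^ N * (f0 ^ N' * C y) by rw [map_add]; ring,
        map_add, map_mul π, map_mul π (f0 ^ N), map_pow, map_pow]
      exact add_mem (mul_mem (pow_mem hf0 _) hN) (mul_mem (pow_mem hf0 _) hN')
    | mul x y _ _ hx hy =>
      obtain ⟨N, hN⟩ := hx; obtain ⟨N', hN'⟩ := hy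
      refine ⟨N + N', ?_⟩
      rw [show f0 ^ (N + N') * C (x * y) = (f0 ^ N * C x) * (f0 ^ N' * C y) by rw [map_mul]; ring, map_mul]
      exact mul_mem hN hN'
  let A := Algebra.adjoin k (Set.range M.lam)
  let T : R' → Prop := fun y => ∃ N, ∃ c ∈ A, c ≠ 0 ∧ π (f0 ^ N * C c * y) ∈ W
  have hC : ∀ c, T (C c) := by
    intro c
    obtain ⟨p, q, hq, hpq⟩ := M.frac c
    have hp : aeval M.lam p ∈ A := by rw [show A = _ from Algebra.adjoin_range_eq_range_aeval k M.lam]; exact ⟨p, rfl⟩
    obtain ⟨N, hN⟩ := hA _ hp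
    refine ⟨N, aeval M.lam q, by rw [show A = _ from Algebra.adjoin_range_eq_range_aeval k M.lam]; exact ⟨q, rfl⟩, hq, ?_⟩
    rwa [mul_assoc, ← map_mul C, mul_comm _ c, hpq]
  have hT : ∀ y, T y := by
    intro y
    induction y using MvPolynomial.induction_on with
    | C c => exact hC c
    | add p q hp hq =>
      obtain ⟨N, c, hc, hc0, hN⟩ := hp; obtain ⟨N', c', hc', hc0', hN'⟩ := hq
      obtain ⟨a, ha⟩ := hA c hc; obtain ⟨a', ha'⟩ := hA c' hc'
      refine ⟨N + N' + a + a', c * c', mul_mem hc hc', mul_ne_zero hc0 hc0', ?_⟩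
      rw [show f0 ^ (N + N' + a + a') * C (c * c') * (p + q) =
          (f0 ^ N * C c * p) * (f0 ^ a' * C c') * f0 ^ (N' + a) + (f0 ^ N' * C c' * q) * (f0 ^ a * C c) * f0 ^ (N + a') by
            rw [map_mul]; ring, map_add, map_mul π, map_mul π, map_mul π (_ * _) (f0 ^ (N + a')), map_mul π (f0 ^ N' * C c' * q),
          map_pow π f0 (N' + a), map_pow π f0 (N + a')]
      exact add_mem (mul_mem (mul_mem hN ha') (pow_mem hf0 _)) (mul_mem (mul_mem hN' ha) (pow_mem hf0 _))
    | mul_X p j hp =>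
      obtain ⟨N, c, hc, hc0, hN⟩ := hp
      refine ⟨N, c, hc, hc0, ?_⟩
      rw [← mul_assoc, map_mul]
      exact mul_mem hN ⟨X j, by simp [π]⟩
  obtain ⟨N, c, -, hc, a, ha⟩ := hT h
  refine ⟨N, ?_⟩
  rw [RingHom.comp_apply, Ideal.Quotient.eq] at ha
  have hh' : (f0 ^ N * C c * h).IsHomogeneous (d * N + u) := by
    simpa using ((((hF 0).map (algebraMap k K0)).pow N).mul (isHomogeneous_C _ c)).mul hh
  have h1 := M.homog_J hF _ ha (d * N + u)
  rw [show weightedHomogeneousComponent w₁ (d * N + u) = homogeneousComponent (d * N + u) from rfl, map_sub,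
    map_homogeneousComponent, homogeneousComponent_eq_self hh'] at h1
  have h2 := M.Φ_eq_zero h1
  rw [map_sub, map_mul, hΦ, mul_zero, sub_zero, M.Φ_map] at h2
  rw [M.inj _ _ (homogeneousComponent_isHomogeneous _ _) h2, map_zero, zero_sub, neg_mem_iff,
    mul_right_comm, mul_comm] at h1
  exact (Ideal.unit_mul_mem_iff_mem _ ((isUnit_iff_ne_zero.2 hc).map C)).1 h1

theorem Model.finite_quotient (hF : ∀ i, (F i).IsHomogeneous d) (hℓ : ℓ.IsHomogeneous 1)
    {N : ℕ} (hN : ∀ j, X j ^ N ∈ Ideal.span (Set.range F) ⊔ Ideal.span {ℓ}) :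
    Module.Finite K0 (R' ⧸ (M.J ⊔ Ideal.span {ιm ℓ})) := by
  classical
  refine finite_quotient_of_isMaximal _ fun P hP hle => isMaximal_of_X_mem hP.ne_top fun j => ?_
  have hℓP : ιm ℓ ∈ P := hle (Ideal.mem_sup_right (Ideal.mem_span_singleton_self _))
  have hJP : M.J ≤ P := le_sup_left.trans hle
  by_cases hF0 : ιm (F 0) ∈ P
  · have : Ideal.span (Set.range F) ⊔ Ideal.span {ℓ} ≤ P.comap ιm := by
      refine sup_le (Ideal.span_le.2 ?_) ((Ideal.span_singleton_le_iff_mem _).2 hℓP)
      rintro _ ⟨i, rfl⟩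
      refine Fin.cases hF0 (fun i => ?_) i
      have h := P.add_mem (hJP (Ideal.subset_span ⟨i, rfl⟩)) (P.mul_mem_left (C (M.lam i)) hF0)
      simpa [Model.G] using h
    have h := this (hN j)
    rw [Ideal.mem_comap, map_pow, map_X] at h
    exact hP.mem_of_pow_mem _ h
  · have := M.fin
    have hint := Algebra.IsIntegral.isIntegral (R := K0) (M.xx j)
    set p := minpoly K0 (M.xx j)
    set e := p.natDegree
    let term := fun i => C (p.coeff i) * X j ^ i * ιm ℓ ^ (e - i)
    have hhom : (∑ i ∈ Finset.range (e + 1), term i).IsHomogeneous e := IsHomogeneous.sum _ _ _ fun i hi => by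
      have h := ((isHomogeneous_C_mul_X_pow (p.coeff i) j i)).mul ((hℓ.map (algebraMap k K0)).pow (e - i))
      rwa [show i + 1 * (e - i) = e by have := Finset.mem_range.1 hi; omega] at h
    have hΦ : M.Φ (∑ i ∈ Finset.range (e + 1), term i) = 0 := by
      rw [← minpoly.aeval K0 (M.xx j), Polynomial.aeval_eq_sum_range, map_sum]
      refine Finset.sum_congr rfl fun i _ => ?_
      simp only [term, map_mul, map_pow, M.Φ_line, one_pow, mul_one, aeval_C, aeval_X, Algebra.smul_def, p]
    obtain ⟨N', hN'⟩ := M.clear hF hhom hΦ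
    have hsum := (hP.mem_or_mem (hJP hN')).resolve_left fun h => hF0 (hP.mem_of_pow_mem _ h)
    rw [Finset.sum_range_succ] at hsum
    have hlow : ∑ i ∈ Finset.range e, term i ∈ P := Ideal.sum_mem _ fun i hi =>
      Ideal.mul_mem_left _ _ (Ideal.pow_mem_of_mem _ hℓP _ (by have := Finset.mem_range.1 hi; omega))
    have h := P.sub_mem hsum hlow
    rw [add_sub_cancel_left] at h
    simp only [term, e, Nat.sub_self, pow_zero, mul_one, (minpoly.monic hint).coeff_natDegree, map_one, one_mul, p] at h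
    exact hP.mem_of_pow_mem _ h

/-- The eventual Hilbert function of the moving complete intersection. -/
theorem Model.finrank_piece_J (hd : 1 ≤ d) (hF : ∀ i, (F i).IsHomogeneous d) (hℓ : ℓ.IsHomogeneous 1)
    {N : ℕ} (hN : ∀ j, X j ^ N ∈ Ideal.span (Set.range F) ⊔ Ideal.span {ℓ}) :
    ∃ u₀, ∀ u, u₀ ≤ u → Module.finrank K0 (piece w₁ M.J u) = d ^ n := by
  classical
  let g : Fin (n + 1) → R' := Fin.snoc M.G (ιm ℓ)
  let ε : Fin (n + 1) → ℕ := Fin.snoc (fun _ => d) 1
  have hg : ∀ i, IsWeightedHomogeneous w₁ (g i) (ε i) := by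
    intro i
    refine Fin.lastCases ?_ (fun j => ?_) i
    · simp only [g, ε, Fin.snoc_last]; exact hℓ.map _
    · simp only [g, ε, Fin.snoc_castSucc]; exact M.G_homog hF j
  have hspan : Ideal.span (Set.range g) = M.J ⊔ Ideal.span {ιm ℓ} := by
    rw [show g = Fin.snoc M.G (ιm ℓ) from rfl, Fin.range_snoc, Ideal.span_insert, sup_comm]; rfl
  have hreg := wreg_of_finite (δ := w₁) (fun _ => one_pos) (g := g) (ε := ε)
    (fun i => Fin.lastCases (by simp [ε]) (fun j => by simp only [ε, Fin.snoc_castSucc]; exact hd) i) hg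
    (hspan ▸ M.finite_quotient hF hℓ hN)
  have hregG : RingTheory.Sequence.IsWeaklyRegular R' (List.ofFn M.G) := by
    rw [wreg_ofFn_iff] at hreg ⊢
    intro i y hy
    have e : (List.ofFn g).take i = (List.ofFn M.G).take i := by
      rw [List.ofFn_succ', List.concat_eq_append, List.take_append_of_le_length (by simp [i.2.le])]
      simp [g]
    have := hreg i.castSucc y
    simp only [g, Fin.snoc_castSucc, Fin.val_castSucc] at this
    rw [show List.ofFn (Fin.snoc M.G (ιm ℓ) : Fin (n + 1) → R') = List.ofFn g from rfl, e] at this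
    exact this hy
  have h := hilb_take (w := w₁) (fun _ => one_pos) (g := M.G) (ε := fun _ => d) (M.G_homog hF) hregG
  have hb := hilb_bot_mul (F := K0) (δ := w₁) (fun _ => one_pos)
  simp only [Pi.one_apply, pow_one, Finset.prod_const, Finset.card_univ, Fintype.card_fin] at h hb
  let P : Polynomial ℤ := (∑ i ∈ Finset.range d, Polynomial.X ^ i) ^ n
  have hgeom : (1 : PowerSeries ℤ) - PowerSeries.X ^ d = (1 - PowerSeries.X) * ∑ i ∈ Finset.range d, PowerSeries.X ^ i :=
    (mul_neg_geom_sum _ _).symm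
  have hH : hilb w₁ M.J = (P : PowerSeries ℤ) * PowerSeries.mk 1 := by
    have h1 : hilb w₁ M.J * (1 - PowerSeries.X) = (P : PowerSeries ℤ) := by
      rw [show M.J = Ideal.span (Set.range M.G) from rfl, h, hgeom, mul_pow,
        show hilb w₁ (⊥ : Ideal R') * ((1 - PowerSeries.X) ^ n * (∑ i ∈ Finset.range d, PowerSeries.X ^ i) ^ n) * (1 - PowerSeries.X) =
          hilb w₁ (⊥ : Ideal R') * (1 - PowerSeries.X) ^ (n + 1) * (∑ i ∈ Finset.range d, (PowerSeries.X : PowerSeries ℤ) ^ i) ^ n by ring,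
        hb, one_mul]
      simp only [P, ← Polynomial.coeToPowerSeries.ringHom_apply, map_pow, map_sum]
      simp
    rw [← h1, mul_assoc, mul_comm _ (PowerSeries.mk 1), PowerSeries.mk_one_mul_one_sub_eq_one, mul_one]
  refine ⟨P.natDegree, fun u hu => ?_⟩
  have h2 := congrArg (PowerSeries.coeff u) hH
  rw [hilb, PowerSeries.coeff_mk, PowerSeries.coeff_mul, Finset.Nat.sum_antidiagonal_eq_sum_range_succ_mk] at h2
  simp only [Polynomial.coeff_coe, PowerSeries.coeff_mk, Pi.one_apply, mul_one] at h2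
  have h3 : P.eval 1 = (d : ℤ) ^ n := by simp [P, Polynomial.eval_finsetSum]
  rw [Polynomial.eval_eq_sum_range' (show P.natDegree < u + 1 by omega)] at h3
  simp only [one_pow, mul_one] at h3
  rw [h3] at h2
  exact_mod_cast h2

theorem finrank_piece_ext {δ u : ℕ}
    (hδ : Module.finrank k (piece w₁ (Ideal.span (Set.range F)) u) = δ) :
    Module.finrank K0 (piece w₁ (extIdeal F K0) u) = δ := by
  classical
  set V := Submodule.restrictScalars k (Ideal.span (Set.range F)) ⊓ homogeneousSubmodule (Fin (n + 1)) k u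
  have : FiniteDimensional k (homogeneousSubmodule (Fin (n + 1)) k u) := Module.Finite.iff_fg.2 (homogeneousSubmodule_fg _ k u)
  have : FiniteDimensional k V := Submodule.finiteDimensional_of_le inf_le_right
  have hV : ext K0 V = Submodule.restrictScalars K0 (extIdeal F K0) ⊓ homogeneousSubmodule (Fin (n + 1)) K0 u := by
    refine SetLike.ext fun h => mem_ext_iff.trans ?_
    simp only [V, Submodule.mem_inf, Submodule.restrictScalars_mem, extIdeal, mem_span_map_iff]
    have e : h ∈ homogeneousSubmodule (Fin (n + 1)) K0 u ↔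
        ∀ π : K0 →ₗ[k] k, cw π h ∈ homogeneousSubmodule (Fin (n + 1)) k u := by
      rw [← mem_ext_iff, ext_homogeneous]
    rw [e]
    exact ⟨fun hh => ⟨fun π => (hh π).1, fun π => (hh π).2⟩, fun hh π => ⟨hh.1 π, hh.2 π⟩⟩
  have h1 : _ + Module.finrank k V = _ := finrank_piece_add (Ideal.span (Set.range F)) u
  have h2 := finrank_piece_add (extIdeal F K0) u
  rw [← hV, finrank_ext, ← ext_homogeneous (k := k) u, finrank_ext] at h2
  rw [hδ] at h1
  omega

theorem Model.exists_preimage (hℓ : ℓ.IsHomogeneous 1) :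
    ∃ u₀, ∀ u, u₀ ≤ u → ∀ y, ∃ a : R', a.IsHomogeneous u ∧ M.Φ a = y := by
  classical
  have := M.fin
  let b := Module.finBasis K0 L0
  choose P hP using fun r => M.gen (b r)
  refine ⟨Finset.univ.sup fun r => (P r).totalDegree, fun u hu y => ?_⟩
  refine ⟨∑ r, C (b.repr y r) * ∑ i ∈ Finset.range ((P r).totalDegree + 1), ιm ℓ ^ (u - i) * homogeneousComponent i (P r), ?_, ?_⟩
  · refine IsHomogeneous.sum _ _ _ fun r _ => IsHomogeneous.C_mul (IsHomogeneous.sum _ _ _ fun i hi => ?_) _
    have h := ((hℓ.map (algebraMap k K0)).pow (u - i)).mul (homogeneousComponent_isHomogeneous i (P r))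
    have : (P r).totalDegree ≤ u := (Finset.le_sup (f := fun r => (P r).totalDegree) (Finset.mem_univ r)).trans hu
    rwa [show 1 * (u - i) + i = u by have := Finset.mem_range.1 hi; omega] at h
  · conv_rhs => rw [← b.sum_repr y]
    rw [map_sum]
    refine Finset.sum_congr rfl fun r _ => ?_
    rw [map_mul, aeval_C, Algebra.smul_def, ← hP r]
    congr 1
    conv_rhs => rw [← sum_homogeneousComponent (P r)]
    rw [map_sum, map_sum]
    exact Finset.sum_congr rfl fun i _ => by rw [map_mul, map_pow, M.Φ_line, one_pow, one_mul]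

end Groth.L03.Frobun
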