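import Groth.Agent.L12.GrCI.Hilbert
import Mathlib.RingTheory.MvPolynomial.Homogeneous
import Mathlib.RingTheory.Ideal.MinimalPrime.Basic
import Mathlib.RingTheory.Jacobson.Ring
import Mathlib.RingTheory.Jacobson.Artinian
import Mathlib.RingTheory.HopkinsLevitzki
import Mathlib.RingTheory.PrincipalIdealDomain
import Mathlib.LinearAlgebra.FiniteDimensional.Basic

/-!
# Homogeneous ideals in the standard grading
-/

set_option autoImplicit false

namespace Groth.L03.Frobun

open MvPolynomial Groth.L12.GrCI

universe u v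

variable {σ : Type v} {F : Type u} [Field F]

section scaling

variable {A : Type*} [CommRing A] [Algebra F A]

/-- Evaluation of a form at a scaled point. -/
theorem aeval_mul_of_isHomogeneous {f : MvPolynomial σ F} {u : ℕ} (hf : f.IsHomogeneous u) (c : A) (y : σ → A) :
    aeval (fun j => c * y j) f = c ^ u * aeval y f := by
  conv_lhs => rw [f.as_sum]
  conv_rhs => rw [f.as_sum]
  rw [map_sum, map_sum, Finset.mul_sum]
  refine Finset.sum_congr rfl fun s hs => ?_
  rw [aeval_monomial, aeval_monomial]
  simp only [Finsupp.prod, mul_pow, Finset.prod_mul_distrib, Finset.prod_pow_eq_pow_sum]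
  rw [show ∑ j ∈ s.support, s j = u from (hf.degree_eq_sum_deg_support hs).symm]
  ring

end scaling

/-- The line through `a`. -/
noncomputable def pt (a : σ → F) : MvPolynomial σ F →ₐ[F] Polynomial F :=
  aeval fun j => Polynomial.X * Polynomial.C (a j)

theorem pt_of_isHomogeneous (a : σ → F) {f : MvPolynomial σ F} {u : ℕ} (hf : f.IsHomogeneous u) :
    pt a f = Polynomial.X ^ u * Polynomial.C (eval a f) := by
  rw [pt, aeval_mul_of_isHomogeneous hf]
  congr 1
  change _ = Polynomial.C (aeval a f)
  have := aeval_algebraMap_apply (A := F) (B := Polynomial F) a f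
  simpa [Function.comp_def] using this

theorem pt_eq_zero_iff (a : σ → F) (f : MvPolynomial σ F) :
    pt a f = 0 ↔ ∀ u, eval a (homogeneousComponent u f) = 0 := by
  have key : ∀ u, (pt a f).coeff u = eval a (homogeneousComponent u f) := by
    intro u
    conv_lhs => rw [← sum_homogeneousComponent f]
    rw [map_sum, Polynomial.finsetSum_coeff]
    simp_rw [pt_of_isHomogeneous a (homogeneousComponent_isHomogeneous _ f), Polynomial.coeff_X_pow_mul']
    rw [Finset.sum_eq_single u]
    · simp
    · intro b _ hb
      split_ifs with h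
      · simp [Polynomial.coeff_C, show u - b ≠ 0 by omega]
      · rfl
    · intro hu
      rw [Finset.mem_range, not_lt] at hu
      simp [homogeneousComponent_eq_zero u f (by omega)]
  simp [Polynomial.ext_iff, key]

theorem pt_aux (a : σ → F) {ℓ : MvPolynomial σ F} (hℓ : ℓ.IsHomogeneous 1) (h : eval a ℓ = 1) :
    pt a ℓ = Polynomial.X := by
  rw [pt_of_isHomogeneous a hℓ, h]; simp

/-- The kernel of a point is generated by the obvious linear forms. -/
theorem mem_span_of_pt_eq_zero (a : σ → F) (ℓ : MvPolynomial σ F) {f : MvPolynomial σ F} (h : pt a f = 0) :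
    f ∈ Ideal.span (Set.range fun j => X j - C (a j) * ℓ) := by
  set I := Ideal.span (Set.range fun j => X j - C (a j) * ℓ)
  let g : Polynomial F →ₐ[F] MvPolynomial σ F ⧸ I := Polynomial.aeval (Ideal.Quotient.mkₐ F I ℓ)
  have hg : g.comp (pt a) = Ideal.Quotient.mkₐ F I := by
    refine MvPolynomial.algHom_ext fun j => ?_
    simp only [g, AlgHom.comp_apply, pt, aeval_X, map_mul, Polynomial.aeval_X, Polynomial.aeval_C]
    symm
    rw [Ideal.Quotient.mkₐ_eq_mk, mul_comm, Ideal.Quotient.mk_algebraMap _ _ _ |>.symm, ← map_mul,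
      Ideal.Quotient.eq]
    exact Ideal.subset_span ⟨j, rfl⟩
  rw [← Ideal.Quotient.eq_zero_iff_mem, ← Ideal.Quotient.mkₐ_eq_mk F, ← hg]
  simp [h]

/-- A prime strictly above a point of projective space is maximal. -/
theorem isMaximal_of_pt (a : σ → F) {ℓ : MvPolynomial σ F} (hℓ : pt a ℓ = Polynomial.X)
    {P : Ideal (MvPolynomial σ F)} [P.IsPrime] (hle : RingHom.ker (pt a) ≤ P) {s : MvPolynomial σ F}
    (hs : s ∈ P) (hs0 : pt a s ≠ 0) : P.IsMaximal := by
  have hsurj : Function.Surjective (pt a) := fun p =>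
    ⟨Polynomial.aeval ℓ p, by
      rw [← Polynomial.aeval_algHom_apply, hℓ, Polynomial.aeval_X_left_apply]⟩
  have := Ideal.map_isPrime_of_surjective (f := (pt a : MvPolynomial σ F →+* Polynomial F)) hsurj (I := P) hle
  have hne : P.map (pt a : MvPolynomial σ F →+* Polynomial F) ≠ ⊥ := fun h => hs0 (by
    have := Ideal.mem_map_of_mem (pt a : MvPolynomial σ F →+* Polynomial F) hs
    rw [h] at this
    simpa using this)
  have := IsPrime.to_maximal_ideal (S := P.map (pt a : MvPolynomial σ F →+* Polynomial F)) hne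
  have := Ideal.comap_isMaximal_of_surjective (pt a : MvPolynomial σ F →+* Polynomial F) hsurj
    (K := P.map (pt a : MvPolynomial σ F →+* Polynomial F))
  have hP : (P.map (pt a : MvPolynomial σ F →+* Polynomial F)).comap (pt a : MvPolynomial σ F →+* Polynomial F) = P := by
    refine (Ideal.comap_map_of_surjective (pt a : MvPolynomial σ F →+* Polynomial F) hsurj P).trans ?_
    exact sup_eq_left.2 hle
  exact hP ▸ this

/-- A minimal prime over a homogeneous ideal is homogeneous. -/
theorem homog_minimalPrime {J : Ideal (MvPolynomial σ F)} (hJ : Homog (1 : σ → ℕ) J) {q : Ideal (MvPolynomial σ F)}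
    (hq : q ∈ J.minimalPrimes) : Homog (1 : σ → ℕ) q := by
  have := hq.1.1
  let τ : MvPolynomial σ F →ₐ[F] Polynomial (MvPolynomial σ F) :=
    aeval fun j => Polynomial.X * Polynomial.C (X j)
  have hτ : ∀ f u, (τ f).coeff u = homogeneousComponent u f := by
    intro f u
    conv_lhs => rw [← sum_homogeneousComponent f]
    rw [map_sum, Polynomial.finsetSum_coeff]
    have : ∀ i, τ (homogeneousComponent i f) = Polynomial.X ^ i * Polynomial.C (homogeneousComponent i f) := fun i => by
      have h := aeval_mul_of_isHomogeneous (A := Polynomial (MvPolynomial σ F))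
        (homogeneousComponent_isHomogeneous i f) Polynomial.X (fun j => Polynomial.C (X j))
      refine h.trans ?_
      congr 1
      have := aeval_algebraMap_apply (A := MvPolynomial σ F) (B := Polynomial (MvPolynomial σ F)) (R := F) X
        (homogeneousComponent i f)
      rw [MvPolynomial.aeval_X_left_apply] at this
      simpa [Function.comp_def] using this
    simp_rw [this, Polynomial.coeff_X_pow_mul']
    rw [Finset.sum_eq_single u]
    · simp
    · intro b _ hb
      split_ifs with h
      · simp [Polynomial.coeff_C, show u - b ≠ 0 by omega]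
      · rfl
    · intro hu
      rw [Finset.mem_range, not_lt] at hu
      simp [homogeneousComponent_eq_zero u f (by omega)]
  let q' := (q.map (Polynomial.C : MvPolynomial σ F →+* Polynomial (MvPolynomial σ F))).comap
    (τ : MvPolynomial σ F →+* Polynomial (MvPolynomial σ F))
  have : (q.map (Polynomial.C : MvPolynomial σ F →+* Polynomial (MvPolynomial σ F))).IsPrime :=
    Ideal.isPrime_map_C_of_isPrime
  have hmem : ∀ f, f ∈ q' ↔ ∀ u, homogeneousComponent u f ∈ q := fun f => by
    simp [q', Ideal.mem_map_C_iff, hτ]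
  have hle : q' ≤ q := fun f hf => by
    rw [← sum_homogeneousComponent f]
    exact Ideal.sum_mem _ fun i _ => (hmem f).1 hf i
  intro x hx u
  exact (hmem x).1 (hq.2 ⟨Ideal.comap_isPrime _ _, fun y hy => (hmem y).2 fun v => hq.1.2 (hJ y hy v)⟩ hle hx) u

theorem finite_quotient_of_isMaximal [Finite σ] (J : Ideal (MvPolynomial σ F))
    (h : ∀ P : Ideal (MvPolynomial σ F), P.IsPrime → J ≤ P → P.IsMaximal) :
    Module.Finite F (MvPolynomial σ F ⧸ J) := by
  have : Ring.KrullDimLE 0 (MvPolynomial σ F ⧸ J) := by
    refine Ring.krullDimLE_zero_iff.2 fun P hP => ?_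
    have := h _ (P.comap_isPrime (Ideal.Quotient.mk J)) ((Ideal.mk_ker (I := J)).ge.trans (Ideal.comap_mono bot_le))
    rw [← Ideal.map_comap_of_surjective _ Ideal.Quotient.mk_surjective P]
    exact Ideal.IsMaximal.map_of_surjective_of_ker_le (m := P.comap (Ideal.Quotient.mk J))
      Ideal.Quotient.mk_surjective (Ideal.comap_mono bot_le)
  have : IsArtinianRing (MvPolynomial σ F ⧸ J) := isArtinianRing_iff_krullDimLE_zero.2 inferInstance
  exact (Module.finite_iff_isArtinianRing F _).2 inferInstance

theorem isMaximal_of_X_mem {P : Ideal (MvPolynomial σ F)} (hP : P ≠ ⊤) (h : ∀ j, X j ∈ P) : P.IsMaximal := by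
  have hmax : (RingHom.ker (constantCoeff : MvPolynomial σ F →+* F)).IsMaximal :=
    RingHom.ker_isMaximal_of_surjective _ fun r => ⟨C r, constantCoeff_C _ r⟩
  have hle : RingHom.ker (constantCoeff : MvPolynomial σ F →+* F) ≤ P := by
    intro f hf
    have hsub : Ideal.span (Set.range (X : σ → MvPolynomial σ F)) ≤ P := Ideal.span_le.2 (by rintro _ ⟨j, rfl⟩; exact h j)
    refine hsub ?_
    rw [← Set.image_univ, mem_ideal_span_X_image]
    intro m hm
    have hm0 : m ≠ 0 := fun h0 => (mem_support_iff.1 hm) (by subst h0; simpa [RingHom.mem_ker, constantCoeff_eq] using hf)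
    obtain ⟨i, hi⟩ := Finsupp.support_nonempty_iff.2 hm0
    exact ⟨i, Set.mem_univ i, Finsupp.mem_support_iff.1 hi⟩
  rwa [← hmax.eq_of_le hP hle]

theorem exists_pow_mem_of_finite [Finite σ] {J : Ideal (MvPolynomial σ F)} (hJ : Homog (1 : σ → ℕ) J)
    (hfin : Module.Finite F (MvPolynomial σ F ⧸ J)) : ∃ N, ∀ j, X j ^ N ∈ J := by
  cases nonempty_fintype σ
  have : ∀ j, ∃ N, X j ^ N ∈ J := by
    intro j
    have := hfin
    obtain ⟨p, hp, hp0⟩ := IsIntegral.of_finite F (Ideal.Quotient.mkₐ F J (X j))
    refine ⟨p.natDegree, ?_⟩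
    have hmem : Polynomial.aeval (X j : MvPolynomial σ F) p ∈ J := by
      rw [← Ideal.Quotient.eq_zero_iff_mem, ← Ideal.Quotient.mkₐ_eq_mk F, ← Polynomial.aeval_algHom_apply]
      exact hp0
    have h : homogeneousComponent p.natDegree (Polynomial.aeval (X j : MvPolynomial σ F) p) = X j ^ p.natDegree := by
      rw [Polynomial.aeval_eq_sum_range, map_sum, Finset.sum_eq_single p.natDegree]
      · rw [hp.coeff_natDegree, one_smul, homogeneousComponent_eq_self (isHomogeneous_X_pow j _)]
      · intro b hb hb'
        rw [map_smul, homogeneousComponent_of_mem (isHomogeneous_X_pow j b), if_neg hb'.symm, smul_zero]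
      · simp
    exact h ▸ hJ _ hmem _
  choose N hN using this
  exact ⟨Finset.univ.sup N, fun j => J.pow_mem_of_pow_mem (hN j) (Finset.le_sup (f := N) (Finset.mem_univ j))⟩

theorem mem_of_pow_mem [Fintype σ] {J : Ideal (MvPolynomial σ F)} {N : ℕ} (h : ∀ j, X j ^ N ∈ J) {u : ℕ}
    (hu : Fintype.card σ * N < u) {f : MvPolynomial σ F} (hf : f.IsHomogeneous u) : f ∈ J := by
  rw [f.as_sum]
  refine Ideal.sum_mem _ fun s hs => ?_
  have hdeg : ∑ j ∈ s.support, s j = u := (hf.degree_eq_sum_deg_support hs).symm
  obtain ⟨j, hj⟩ : ∃ j, N ≤ s j := by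
    by_contra hcon
    push Not at hcon
    have : ∑ j ∈ s.support, s j ≤ Fintype.card σ * N :=
      (Finset.sum_le_univ_sum_of_nonneg fun _ => Nat.zero_le _).trans
        ((Finset.sum_le_card_nsmul _ _ N fun j _ => (hcon j).le).trans (by simp))
    omega
  rw [show monomial s (coeff s f) = monomial (s - Finsupp.single j N) (coeff s f) * X j ^ N by
    rw [X_pow_eq_monomial, monomial_mul, mul_one, tsub_add_cancel_of_le (Finsupp.single_le_iff.2 hj)]]
  exact Ideal.mul_mem_left _ _ (h j)

/-- Rank nullity in one degree. -/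
theorem finrank_piece_add [Finite σ] (J : Ideal (MvPolynomial σ F)) (u : ℕ) :
    Module.finrank F (piece (1 : σ → ℕ) J u) +
      Module.finrank F ↥(Submodule.restrictScalars F J ⊓ homogeneousSubmodule σ F u) =
      Module.finrank F (homogeneousSubmodule σ F u) := by
  have : Module.Finite F (homogeneousSubmodule σ F u) := Module.Finite.iff_fg.2 (homogeneousSubmodule_fg σ F u)
  set g := (Ideal.Quotient.mkₐ F J).toLinearMap.comp (homogeneousSubmodule σ F u).subtype
  have h := g.finrank_range_add_finrank_ker
  have hr : LinearMap.range g = piece (1 : σ → ℕ) J u := by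
    rw [LinearMap.range_comp, Submodule.range_subtype]; rfl
  have hk : LinearMap.ker g = (Submodule.restrictScalars F J ⊓ homogeneousSubmodule σ F u).comap
      (homogeneousSubmodule σ F u).subtype := by
    ext ⟨x, hx⟩
    simp [g, Ideal.Quotient.eq_zero_iff_mem]
  rw [hr, hk, LinearEquiv.finrank_eq (Submodule.comapSubtypeEquivOfLe inf_le_right)] at h
  exact h

end Groth.L03.Frobun
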