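import Mathlib.RingTheory.Ideal.Span
import Mathlib.LinearAlgebra.Pi
import Mathlib.Tactic.Ring
import Mathlib.Tactic.Abel
import Mathlib.Tactic.LinearCombination
import Mathlib.Tactic.Module
import Mathlib.Data.Fintype.Sum

/-!
# The Koszul complex of a regular sequence as one graded free module, with the standard homotopy
-/

set_option autoImplicit false
universe u

namespace Groth.L03.Frobun

variable {A : Type u} [CommRing A]

/-- the indices of the basis of the Koszul complex on `n` elements -/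
def KI : ℕ → Type
  | 0 => Unit
  | n + 1 => KI n ⊕ KI n

instance kiFintype : ∀ n, Fintype (KI n)
  | 0 => inferInstanceAs (Fintype Unit)
  | n + 1 =>
    haveI := kiFintype n
    inferInstanceAs (Fintype (KI n ⊕ KI n))

/-- the degree of a basis vector -/
def kdeg : ∀ n, KI n → ℕ
  | 0, _ => 0
  | n + 1, Sum.inl i => kdeg n i
  | n + 1, Sum.inr i => kdeg n i + 1

theorem kdeg_le : ∀ n (i : KI n), kdeg n i ≤ n
  | 0, _ => Nat.le_refl 0
  | n + 1, Sum.inl i => (kdeg_le n i).trans (Nat.le_succ n)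
  | n + 1, Sum.inr i => Nat.succ_le_succ (kdeg_le n i)

/-- the degree zero basis vector -/
def kbase : ∀ n, KI n
  | 0 => ()
  | n + 1 => Sum.inl (kbase n)

theorem kdeg_base : ∀ n, kdeg n (kbase n) = 0
  | 0 => rfl
  | n + 1 => kdeg_base n

theorem kdeg_eq_zero : ∀ n (i : KI n), kdeg n i = 0 → i = kbase n
  | 0, _, _ => rfl
  | n + 1, Sum.inl i, h => congrArg Sum.inl (kdeg_eq_zero n i h)
  | n + 1, Sum.inr i, h => absurd h (Nat.succ_ne_zero _)

variable (G b : ℕ → A)

/-- left half -/
def lft {n : ℕ} : (KI (n + 1) → A) →ₗ[A] (KI n → A) := LinearMap.funLeft A A Sum.inl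

/-- right half -/
def rgt {n : ℕ} : (KI (n + 1) → A) →ₗ[A] (KI n → A) := LinearMap.funLeft A A Sum.inr

/-- assembling the halves -/
def pair {n : ℕ} : (KI n → A) × (KI n → A) →ₗ[A] (KI (n + 1) → A) where
  toFun p i := Sum.elim p.1 p.2 i
  map_add' p q := by funext i; rcases i with i | i <;> rfl
  map_smul' t p := by funext i; rcases i with i | i <;> rfl

@[simp] theorem lft_pair {n : ℕ} (p : (KI n → A) × (KI n → A)) : lft (pair p) = p.1 := rfl
@[simp] theorem rgt_pair {n : ℕ} (p : (KI n → A) × (KI n → A)) : rgt (pair p) = p.2 := rfl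

theorem kext {n : ℕ} {x y : KI (n + 1) → A} (h1 : lft x = lft y) (h2 : rgt x = rgt y) : x = y := by
  funext i
  rcases i with i | i
  · exact congrFun h1 i
  · exact congrFun h2 i

/-- the Koszul differential -/
def kd : ∀ n, (KI n → A) →ₗ[A] (KI n → A)
  | 0 => 0
  | n + 1 => pair ∘ₗ ((kd n ∘ₗ lft + G n • rgt).prod (-(kd n ∘ₗ rgt)))

/-- the homotopy -/
def ks : ∀ n, (KI n → A) →ₗ[A] (KI n → A)
  | 0 => 0
  | n + 1 => pair ∘ₗ ((ks n ∘ₗ lft).prod (-(ks n ∘ₗ rgt) + b n • lft))

theorem kd_succ (n : ℕ) (x : KI (n + 1) → A) :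
    kd G (n + 1) x = pair (kd G n (lft x) + G n • rgt x, -(kd G n (rgt x))) := rfl

theorem ks_succ (n : ℕ) (x : KI (n + 1) → A) :
    ks b (n + 1) x = pair (ks b n (lft x), -(ks b n (rgt x)) + b n • lft x) := rfl

theorem kd_kd : ∀ n (x : KI n → A), kd G n (kd G n x) = 0
  | 0, _ => rfl
  | n + 1, x => by
    refine kext ?_ ?_
    · simp [kd_succ, kd_kd n]
    · simp [kd_succ, kd_kd n]

theorem ks_ks : ∀ n (x : KI n → A), ks b n (ks b n x) = 0
  | 0, _ => rfl
  | n + 1, x => by
    refine kext ?_ ?_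
    · simp [ks_succ, ks_ks n]
    · simp [ks_succ, ks_ks n]

theorem kd_ks : ∀ n (x : KI n → A),
    kd G n (ks b n x) + ks b n (kd G n x) = (∑ i ∈ Finset.range n, G i * b i) • x
  | 0, _ => by simp [kd, ks]
  | n + 1, x => by
    refine kext ?_ ?_
    · rw [map_add, map_smul]
      simp only [kd_succ, ks_succ, lft_pair, rgt_pair, map_add, map_neg, map_smul, Finset.sum_range_succ, add_smul,
        smul_add, smul_neg, smul_smul]
      linear_combination (norm := module) kd_ks n (lft x)
    · rw [map_add, map_smul]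
      simp only [kd_succ, ks_succ, lft_pair, rgt_pair, map_add, map_neg, map_smul, Finset.sum_range_succ, add_smul,
        smul_add, smul_neg, smul_smul]
      linear_combination (norm := module) kd_ks n (rgt x)

/-- projection to degree `m` -/
def kproj (n m : ℕ) : (KI n → A) →ₗ[A] (KI n → A) where
  toFun x i := if kdeg n i = m then x i else 0
  map_add' x y := by funext i; dsimp; split_ifs <;> simp
  map_smul' t x := by funext i; dsimp; split_ifs <;> simp

theorem kproj_apply (n m : ℕ) (x : KI n → A) (i : KI n) : kproj n m x i = if kdeg n i = m then x i else 0 := rfl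

theorem lft_kproj (n m : ℕ) (x : KI (n + 1) → A) : lft (kproj (n + 1) m x) = kproj n m (lft x) := rfl

theorem rgt_kproj_succ (n m : ℕ) (x : KI (n + 1) → A) : rgt (kproj (n + 1) (m + 1) x) = kproj n m (rgt x) := by
  funext i
  show (if kdeg n i + 1 = m + 1 then rgt x i else 0) = if kdeg n i = m then rgt x i else 0
  simp only [Nat.add_right_cancel_iff]

theorem rgt_kproj_zero (n : ℕ) (x : KI (n + 1) → A) : rgt (kproj (n + 1) 0 x) = 0 := by
  funext i
  show (if kdeg n i + 1 = 0 then rgt x i else 0) = 0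
  rw [if_neg (Nat.succ_ne_zero _)]

theorem kd_kproj_zero : ∀ n (x : KI n → A), kd G n (kproj n 0 x) = 0
  | 0, _ => rfl
  | n + 1, x => by
    refine kext ?_ ?_
    · simp [kd_succ, lft_kproj, rgt_kproj_zero, kd_kproj_zero n]
    · simp [kd_succ, rgt_kproj_zero]

theorem kd_kproj : ∀ n m (x : KI n → A), kd G n (kproj n (m + 1) x) = kproj n m (kd G n x)
  | 0, m, x => by simp [kd]
  | n + 1, m, x => by
    refine kext ?_ ?_
    · simp [kd_succ, lft_kproj, rgt_kproj_succ, kd_kproj n m]
    · cases m with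
      | zero => simp [kd_succ, rgt_kproj_succ, rgt_kproj_zero, kd_kproj_zero]
      | succ m => simp [kd_succ, rgt_kproj_succ, kd_kproj n m]

theorem ks_kproj_zero : ∀ n (x : KI n → A), kproj n 0 (ks b n x) = 0
  | 0, _ => by simp [ks]
  | n + 1, x => by
    refine kext ?_ ?_
    · simp [ks_succ, lft_kproj, ks_kproj_zero n]
    · simp [rgt_kproj_zero]

theorem ks_kproj : ∀ n m (x : KI n → A), ks b n (kproj n m x) = kproj n (m + 1) (ks b n x)
  | 0, m, x => by simp [ks]
  | n + 1, m, x => by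
    refine kext ?_ ?_
    · simp [ks_succ, lft_kproj, ks_kproj n m]
    · cases m with
      | zero => simp [ks_succ, lft_kproj, rgt_kproj_zero, rgt_kproj_succ, ks_kproj_zero]
      | succ m => simp [ks_succ, lft_kproj, rgt_kproj_succ, ks_kproj n m]

/-- the parity twist -/
def ktau (n : ℕ) : (KI n → A) →ₗ[A] (KI n → A) where
  toFun x i := (-1 : A) ^ kdeg n i * x i
  map_add' x y := by funext i; simp [mul_add]
  map_smul' t x := by funext i; simp [mul_left_comm]

theorem ktau_apply (n : ℕ) (x : KI n → A) (i : KI n) : ktau n x i = (-1 : A) ^ kdeg n i * x i := rfl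

theorem lft_ktau (n : ℕ) (x : KI (n + 1) → A) : lft (ktau (n + 1) x) = ktau n (lft x) := rfl

theorem rgt_ktau (n : ℕ) (x : KI (n + 1) → A) : rgt (ktau (n + 1) x) = -ktau n (rgt x) := by
  funext i
  show (-1 : A) ^ (kdeg n i + 1) * rgt x i = -((-1 : A) ^ kdeg n i * rgt x i)
  rw [pow_succ]; ring

theorem ktau_ktau (n : ℕ) (x : KI n → A) : ktau n (ktau n x) = x := by
  funext i
  rw [ktau_apply, ktau_apply, ← mul_assoc, ← mul_pow]
  simp

theorem kd_ktau : ∀ n (x : KI n → A), kd G n (ktau n x) = -ktau n (kd G n x)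
  | 0, _ => by simp [kd]
  | n + 1, x => by
    refine kext ?_ ?_
    · simp [kd_succ, lft_ktau, rgt_ktau, kd_ktau n]; abel
    · simp [kd_succ, rgt_ktau, kd_ktau n]

theorem ks_ktau : ∀ n (x : KI n → A), ks b n (ktau n x) = -ktau n (ks b n x)
  | 0, _ => by simp [ks]
  | n + 1, x => by
    refine kext ?_ ?_
    · simp [ks_succ, lft_ktau, ks_ktau n]
    · simp [ks_succ, lft_ktau, rgt_ktau, ks_ktau n]

open Classical in
/-- the degree zero vector with coefficient `a` -/
noncomputable def kvec (n : ℕ) : A →ₗ[A] (KI n → A) := LinearMap.single A (fun _ : KI n => A) (kbase n)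

theorem kvec_base (n : ℕ) (a : A) : kvec n a (kbase n) = a := by
  classical
  simp [kvec]

theorem kvec_of_ne {n : ℕ} (a : A) {i : KI n} (h : kdeg n i ≠ 0) : kvec n a i = 0 := by
  classical
  have : i ≠ kbase n := fun e => h (e ▸ kdeg_base n)
  simp [kvec, this]

theorem eq_kvec {n : ℕ} {x : KI n → A} (h : ∀ i, kdeg n i ≠ 0 → x i = 0) : x = kvec n (x (kbase n)) := by
  funext i
  by_cases hi : kdeg n i = 0
  · rw [kdeg_eq_zero n i hi, kvec_base]
  · rw [h i hi, kvec_of_ne _ hi]

theorem lft_kvec (n : ℕ) (a : A) : lft (kvec (n + 1) a) = kvec n a := by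
  funext i
  by_cases hi : kdeg n i = 0
  · rw [kdeg_eq_zero n i hi, kvec_base]; exact kvec_base (n + 1) a
  · rw [kvec_of_ne _ hi]; exact kvec_of_ne (n := n + 1) (i := Sum.inl i) a hi

theorem rgt_kvec (n : ℕ) (a : A) : rgt (kvec (n + 1) a) = (0 : KI n → A) := by
  funext i
  exact kvec_of_ne (n := n + 1) (i := Sum.inr i) a (Nat.succ_ne_zero _)

theorem kd_kvec : ∀ n (a : A), kd G n (kvec n a) = 0
  | 0, _ => rfl
  | n + 1, a => by
    refine kext ?_ ?_
    · simp [kd_succ, lft_kvec, rgt_kvec, kd_kvec n]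
    · simp [kd_succ, rgt_kvec]

theorem ktau_kvec (n : ℕ) (a : A) : ktau n (kvec n a) = kvec n a := by
  funext i
  rw [ktau_apply]
  by_cases hi : kdeg n i = 0
  · rw [hi, pow_zero, one_mul]
  · rw [kvec_of_ne _ hi, mul_zero]

/-- the ideal of the first `n` elements -/
def kideal (n : ℕ) : Ideal A := Ideal.span (G '' {i | i < n})

theorem kideal_succ (n : ℕ) : kideal G (n + 1) = kideal G n ⊔ Ideal.span {G n} := by
  rw [kideal, kideal, ← Ideal.span_union]
  congr 1
  ext a
  simp only [Set.mem_image, Set.mem_setOf_eq, Set.mem_union, Set.mem_singleton_iff]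
  constructor
  · rintro ⟨i, hi, rfl⟩
    rcases Nat.lt_succ_iff_lt_or_eq.1 hi with h | h
    · exact Or.inl ⟨i, h, rfl⟩
    · exact Or.inr (h ▸ rfl)
  · rintro (⟨i, hi, rfl⟩ | rfl)
    · exact ⟨i, hi.trans (Nat.lt_succ_self n), rfl⟩
    · exact ⟨n, Nat.lt_succ_self n, rfl⟩

theorem kd_base_mem : ∀ n (x : KI n → A), kd G n x (kbase n) ∈ kideal G n
  | 0, _ => zero_mem _
  | n + 1, x => by
    rw [kideal_succ]
    show kd G n (lft x) (kbase n) + G n * rgt x (kbase n) ∈ _
    exact add_mem (Ideal.mem_sup_left (kd_base_mem n _))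
      (Ideal.mem_sup_right (Ideal.mem_span_singleton.2 (dvd_mul_right _ _)))

theorem kideal_le_range : ∀ n {a : A}, a ∈ kideal G n → ∃ y, kd G n y = kvec n a
  | 0, a, ha => by
    obtain rfl : a = 0 := by simpa [kideal] using ha
    exact ⟨0, by simp⟩
  | n + 1, a, ha => by
    rw [kideal_succ, Submodule.mem_sup] at ha
    obtain ⟨a₁, ha₁, a₂, ha₂, rfl⟩ := ha
    obtain ⟨c, rfl⟩ := Ideal.mem_span_singleton'.1 ha₂
    obtain ⟨y, hy⟩ := kideal_le_range n ha₁
    refine ⟨pair (y, kvec n c), kext ?_ ?_⟩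
    · rw [kd_succ, lft_pair, lft_kvec, lft_pair, rgt_pair]
      show kd G n y + G n • kvec n c = kvec n (a₁ + c * G n)
      rw [hy, ← map_smul, ← map_add, smul_eq_mul, mul_comm]
    · simp [kd_succ, kd_kvec, rgt_kvec]

/-- the first `n` elements form a weakly regular sequence -/
def KReg (n : ℕ) : Prop := ∀ i < n, ∀ a, a * G i ∈ kideal G i → a ∈ kideal G i

theorem exists_of_cycle : ∀ n, KReg G n → ∀ x : KI n → A, kd G n x = 0 → ∃ a y, x = kvec n a + kd G n y
  | 0, _, x, _ => ⟨x (kbase 0), 0, by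
    rw [map_zero, add_zero]; exact eq_kvec fun i hi => absurd (Nat.le_zero.1 (kdeg_le 0 i)) hi⟩
  | n + 1, hreg, x, hx => by
    have hreg' : KReg G n := fun i hi => hreg i (hi.trans (Nat.lt_succ_self n))
    rw [kd_succ] at hx
    have h1 : kd G n (lft x) + G n • rgt x = 0 := by simpa using congrArg lft hx
    have h2 : kd G n (rgt x) = 0 := by simpa using congrArg rgt hx
    obtain ⟨a, y', hy⟩ := exists_of_cycle n hreg' (rgt x) h2
    have ha : a ∈ kideal G n := by
      refine hreg n (Nat.lt_succ_self n) a ?_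
      have h := congrFun h1 (kbase n)
      rw [hy] at h
      simp only [Pi.add_apply, Pi.smul_apply, smul_eq_mul, kvec_base, Pi.zero_apply] at h
      rw [show a * G n = -(kd G n (lft x) (kbase n)) + -(G n * kd G n y' (kbase n)) by linear_combination h]
      exact add_mem (neg_mem (kd_base_mem G n _)) (neg_mem (Ideal.mul_mem_left _ _ (kd_base_mem G n _)))
    obtain ⟨y'', hy''⟩ := kideal_le_range G n ha
    have hr : rgt x = kd G n (y'' + y') := by rw [map_add, hy'', hy]
    have h3 : kd G n (lft x + G n • (y'' + y')) = 0 := by rw [map_add, map_smul, ← hr, h1]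
    obtain ⟨a', z, hz⟩ := exists_of_cycle n hreg' _ h3
    refine ⟨a', pair (z, -(y'' + y')), kext ?_ ?_⟩
    · simp only [map_add, kd_succ, lft_pair, rgt_pair, lft_kvec]
      linear_combination (norm := module) hz
    · simp only [map_add, kd_succ, lft_pair, rgt_pair, rgt_kvec, map_neg, zero_add, neg_neg]
      rw [hr, map_add]

/-- Positive degree cycles are boundaries of the next degree. -/
theorem exists_of_cycle_pos {n m : ℕ} (hreg : KReg G n) {x : KI n → A} (hm : kproj n (m + 1) x = x)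
    (hx : kd G n x = 0) : ∃ y, kproj n (m + 2) y = y ∧ kd G n y = x := by
  obtain ⟨a, y, hy⟩ := exists_of_cycle G n hreg x hx
  have h0 : kproj n (m + 1) (kvec n a) = 0 := by
    funext i
    rw [kproj_apply]
    split_ifs with h
    · exact kvec_of_ne a (h ▸ Nat.succ_ne_zero m)
    · rfl
  refine ⟨kproj n (m + 2) y, ?_, ?_⟩
  · funext i; simp only [kproj_apply]; split_ifs <;> rfl
  · rw [kd_kproj, ← hm, hy, map_add, h0, zero_add]

theorem kd_mem {M : Ideal A} : ∀ n, (∀ i < n, G i ∈ M) → ∀ (x : KI n → A) (i : KI n), kd G n x i ∈ M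
  | 0, _, _, _ => zero_mem M
  | n + 1, h, x, Sum.inl i =>
    add_mem (kd_mem n (fun j hj => h j (hj.trans (Nat.lt_succ_self n))) _ i) (Ideal.mul_mem_right _ _ (h n (Nat.lt_succ_self n)))
  | n + 1, h, x, Sum.inr i => neg_mem (kd_mem n (fun j hj => h j (hj.trans (Nat.lt_succ_self n))) _ i)

theorem ks_mem {M : Ideal A} : ∀ n, (∀ i < n, b i ∈ M) → ∀ (x : KI n → A) (i : KI n), ks b n x i ∈ M
  | 0, _, _, _ => zero_mem M
  | n + 1, h, x, Sum.inl i => ks_mem n (fun j hj => h j (hj.trans (Nat.lt_succ_self n))) _ i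
  | n + 1, h, x, Sum.inr i =>
    add_mem (neg_mem (ks_mem n (fun j hj => h j (hj.trans (Nat.lt_succ_self n))) _ i))
      (Ideal.mul_mem_right _ _ (h n (Nat.lt_succ_self n)))

end Groth.L03.Frobun
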