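import Groth.Agent.L03.Frobun.Periodic
import Groth.Agent.L13.LiaisonDouble
import Groth.Agent.L21.GorensteinLCI
import Groth.Agent.L21.GorensteinAscend
import Groth.Agent.L04.RegularPd
import Groth.Agent.L12.GrCI.Graded
import Groth.Agent.L01.Regular
import Groth.Agent.S0342
import Mathlib.RingTheory.Artinian.Module

/-!
# Almost complete intersections are not Gorenstein (dimension zero)
-/

set_option autoImplicit false
universe u

open IsLocalRing

namespace Groth.L03.Frobun

theorem ringKrullDim_eq_zero_of_isArtinianRing' (C : Type u) [CommRing C] [Nontrivial C] [IsArtinianRing C] : ringKrullDim C = 0 :=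
  ringKrullDimZero_iff_ringKrullDim_eq_zero.1 inferInstance

/-- in a zero dimensional Gorenstein local ring some element lies in every nonzero ideal -/
theorem exists_socle {C : Type u} [CommRing C] [IsLocalRing C] [IsArtinianRing C] [Module.Injective C C] :
    ∃ t : C, t ≠ 0 ∧ ∀ 𝔞 : Ideal C, 𝔞 ≠ ⊥ → t ∈ 𝔞 := by
  obtain ⟨N, hN⟩ : IsNilpotent (maximalIdeal C) := by
    rw [← jacobson_eq_maximalIdeal ⊥ bot_ne_top]; exact IsArtinianRing.isNilpotent_jacobson_bot
  have key : ∀ 𝔞 : Ideal C, 𝔞 ≠ ⊥ → ∃ w ∈ 𝔞, w ≠ 0 ∧ ∀ r ∈ maximalIdeal C, r * w = 0 := by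
    intro 𝔞 h𝔞
    classical
    have hex : ∃ j, maximalIdeal C ^ j * 𝔞 = ⊥ := ⟨N, by rw [hN, zero_mul]; rfl⟩
    obtain ⟨j, hj⟩ : ∃ j, Nat.find hex = j + 1 := ⟨Nat.find hex - 1, by
      have : Nat.find hex ≠ 0 := fun h => h𝔞 (by simpa [h] using Nat.find_spec hex)
      omega⟩
    obtain ⟨w, hw, hw0⟩ := Submodule.exists_mem_ne_zero_of_ne_bot (Nat.find_min hex (show j < Nat.find hex by omega))
    refine ⟨w, Ideal.mul_le_right hw, hw0, fun r hr => ?_⟩
    have h := Nat.find_spec hex
    rw [hj, pow_succ', mul_assoc] at h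
    have hm := Ideal.mul_mem_mul hr hw
    rw [h] at hm
    exact (Submodule.mem_bot C).1 hm
  obtain ⟨t, -, ht0, ht⟩ := key ⊤ top_ne_bot
  refine ⟨t, ht0, fun 𝔞 h𝔞 => ?_⟩
  obtain ⟨w, hw, hw0, -⟩ := key 𝔞 h𝔞
  have : t ∈ Ideal.span (Set.range fun _ : Fin 1 => w) := by
    refine Groth.L13.Liaison.mem_span_of_forall_annihilates _ _ fun r hr => ht r ?_
    exact (mem_maximalIdeal r).2 fun hu => hw0 ((hu.mul_right_eq_zero).1 (hr 0))
  rw [Set.range_const] at this
  exact (Ideal.span_singleton_le_iff_mem 𝔞).2 hw this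

/-- in a zero dimensional Gorenstein local ring with Gorenstein quotient by `f` the annihilator of `f` is principal -/
theorem exists_ann_principal {B : Type u} [CommRing B] [IsLocalRing B] [IsArtinianRing B] [Module.Injective B B]
    (f : B) (hf : f ∈ maximalIdeal B) (hC : LocCoh.IsGorensteinLocalRing (B ⧸ Ideal.span {f})) :
    ∃ g : B, (∀ a, a * f = 0 ↔ a ∈ Ideal.span {g}) ∧ (∀ a, a * g = 0 ↔ a ∈ Ideal.span {f}) ∧ g ≠ 0 := by
  have hne : Ideal.span ({f} : Set B) ≠ ⊤ := fun h =>
    (maximalIdeal.isMaximal B).ne_top (top_le_iff.1 (h ▸ (Ideal.span_singleton_le_iff_mem _).2 hf))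
  haveI : Nontrivial (B ⧸ Ideal.span ({f} : Set B)) := Ideal.Quotient.nontrivial_iff.2 hne
  haveI : IsLocalRing (B ⧸ Ideal.span ({f} : Set B)) := IsLocalRing.of_surjective' _ Ideal.Quotient.mk_surjective
  haveI := hC
  haveI : Module.Injective (B ⧸ Ideal.span ({f} : Set B)) (B ⧸ Ideal.span ({f} : Set B)) :=
    Groth.L13.Liaison.injective_self_of_dim_zero (ringKrullDim_eq_zero_of_isArtinianRing' _)
  have dann : ∀ a x : B, (∀ r, r * a = 0 → r * x = 0) → x ∈ Ideal.span {a} := fun a x h => by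
    have := Groth.L13.Liaison.mem_span_of_forall_annihilates (fun _ : Fin 1 => a) x fun r hr => h r (hr 0)
    rwa [Set.range_const] at this
  obtain ⟨t, ht0, ht⟩ := exists_socle (C := B ⧸ Ideal.span ({f} : Set B))
  obtain ⟨s, rfl⟩ := Ideal.Quotient.mk_surjective t
  rw [Ne, Ideal.Quotient.eq_zero_iff_mem] at ht0
  obtain ⟨g, hgf, hgs⟩ : ∃ g, g * f = 0 ∧ g * s ≠ 0 := by
    by_contra hcon
    push Not at hcon
    exact ht0 (dann f s hcon)
  have hann : ∀ a, a * g = 0 ↔ a ∈ Ideal.span {f} := by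
    intro a
    constructor
    · intro ha
      by_contra hna
      have h1 : Ideal.span ({Ideal.Quotient.mk (Ideal.span {f}) a} : Set (B ⧸ Ideal.span ({f} : Set B))) ≠ ⊥ := by
        rwa [Ne, Ideal.span_singleton_eq_bot, Ideal.Quotient.eq_zero_iff_mem]
      obtain ⟨c, hc⟩ := Ideal.mem_span_singleton'.1 (ht _ h1)
      obtain ⟨c, rfl⟩ := Ideal.Quotient.mk_surjective c
      rw [← map_mul, Ideal.Quotient.eq, Ideal.mem_span_singleton'] at hc
      obtain ⟨e, he⟩ := hc
      exact hgs (by linear_combination c * ha + g * he - e * hgf)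
    · intro ha
      obtain ⟨c, rfl⟩ := Ideal.mem_span_singleton'.1 ha
      linear_combination c * hgf
  refine ⟨g, fun a => ⟨fun ha => dann g a fun r hr => ?_, fun ha => ?_⟩, hann, fun h => hgs (by rw [h, zero_mul])⟩
  · obtain ⟨c, rfl⟩ := Ideal.mem_span_singleton'.1 ((hann r).1 hr)
    linear_combination c * ha
  · obtain ⟨c, rfl⟩ := Ideal.mem_span_singleton'.1 ha
    linear_combination c * hgf

/-- An almost complete intersection of finite colength in a regular local ring with Gorenstein quotient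
is generated by as many elements as the regular sequence inside it. -/
theorem exists_generators_of_gorenstein {A : Type u} [CommRing A] [IsRegularLocalRing A] {n : ℕ} (G : Fin n → A)
    (hG : ∀ i, G i ∈ maximalIdeal A) (hreg : RingTheory.Sequence.IsWeaklyRegular A (List.ofFn G))
    (hdim : ∀ P : Ideal A, P.IsPrime → Ideal.span (Set.range G) ≤ P → P = maximalIdeal A)
    (f : A) (hf : f ∈ maximalIdeal A)
    (hGor : LocCoh.IsGorensteinLocalRing (A ⧸ (Ideal.span (Set.range G) ⊔ Ideal.span {f}))) :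
    ∃ K : Fin n → A, Ideal.span (Set.range K) = Ideal.span (Set.range G) ⊔ Ideal.span {f} := by
  classical
  set J := Ideal.span (Set.range G) with hJ
  by_cases hfJ : f ∈ J
  · exact ⟨G, by rw [eq_comm, sup_eq_left, Ideal.span_singleton_le_iff_mem]; exact hfJ⟩
  have hJm : J ≤ maximalIdeal A := Ideal.span_le.2 (by rintro _ ⟨i, rfl⟩; exact hG i)
  haveI : LocCoh.IsGorensteinLocalRing A := Groth.Agent.S0342.result A
  haveI : Nontrivial (A ⧸ J) := Ideal.Quotient.nontrivial_iff.2 fun h => (maximalIdeal.isMaximal A).ne_top (top_le_iff.1 (h ▸ hJm))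
  haveI : IsLocalRing (A ⧸ J) := IsLocalRing.of_surjective' _ Ideal.Quotient.mk_surjective
  haveI : Ring.KrullDimLE 0 (A ⧸ J) := by
    refine Ring.krullDimLE_zero_iff.2 fun P hP => ?_
    have h := hdim (P.comap (Ideal.Quotient.mk J)) (P.comap_isPrime _) ((Ideal.mk_ker (I := J)).ge.trans
      (Ideal.comap_mono bot_le))
    have h2 : P = (maximalIdeal A).map (Ideal.Quotient.mk J) := by
      rw [← h, Ideal.map_comap_of_surjective _ Ideal.Quotient.mk_surjective]
    rw [h2, IsLocalRing.map_maximalIdeal_of_surjective _ Ideal.Quotient.mk_surjective]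
    exact maximalIdeal.isMaximal _
  haveI : IsArtinianRing (A ⧸ J) := isArtinianRing_iff_krullDimLE_zero.2 inferInstance
  haveI : LocCoh.IsGorensteinLocalRing (A ⧸ J) := by
    have h := Groth.L21.GorensteinLCI.gorenstein_quot_list A (List.ofFn G)
      (fun r hr => by obtain ⟨i, rfl⟩ := List.mem_ofFn.1 hr; exact hG i) hreg
    exact Groth.L21.GorensteinAscend.isGorensteinLocalRing_of_ringEquiv
      (Ideal.quotEquivOfEq (congrArg Ideal.span (Set.ext fun x => by simp [List.mem_ofFn]))) h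
  haveI : Module.Injective (A ⧸ J) (A ⧸ J) :=
    Groth.L13.Liaison.injective_self_of_dim_zero (ringKrullDim_eq_zero_of_isArtinianRing' _)
  have hC : LocCoh.IsGorensteinLocalRing ((A ⧸ J) ⧸ Ideal.span {Ideal.Quotient.mk J f}) := by
    refine Groth.L21.GorensteinAscend.isGorensteinLocalRing_of_ringEquiv
      ((DoubleQuot.quotQuotEquivQuotSup J (Ideal.span {f})).symm.trans (Ideal.quotEquivOfEq ?_)) hGor
    rw [Ideal.map_span, Set.image_singleton]
  have hfb : Ideal.Quotient.mk J f ∈ maximalIdeal (A ⧸ J) := by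
    rw [← IsLocalRing.map_maximalIdeal_of_surjective _ Ideal.Quotient.mk_surjective]
    exact Ideal.mem_map_of_mem _ hf
  obtain ⟨gb, hgf, hgg, hg0⟩ := exists_ann_principal (Ideal.Quotient.mk J f) hfb hC
  obtain ⟨g, rfl⟩ := Ideal.Quotient.mk_surjective gb
  have hgJ : g ∉ J := fun h => hg0 ((Ideal.Quotient.eq_zero_iff_mem).2 h)
  have hfg : g * f ∈ J := by
    have := (hgf (Ideal.Quotient.mk J g)).2 (Ideal.mem_span_singleton_self _)
    rwa [← map_mul, Ideal.Quotient.eq_zero_iff_mem] at this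
  obtain ⟨c, hc⟩ := (Submodule.mem_span_range_iff_exists_fun A).1 hfg
  simp only [smul_eq_mul] at hc
  -- some coefficient is a unit
  by_cases hcu : ∃ i, IsUnit (c i)
  · obtain ⟨i, hu⟩ := hcu
    refine ⟨Function.update G i f, le_antisymm (Ideal.span_le.2 ?_) (sup_le (Ideal.span_le.2 ?_) ?_)⟩
    · rintro _ ⟨j, rfl⟩
      rcases eq_or_ne j i with rfl | hj
      · rw [Function.update_self]; exact Ideal.mem_sup_right (Ideal.mem_span_singleton_self f)
      · rw [Function.update_of_ne hj]; exact Ideal.mem_sup_left (Ideal.subset_span ⟨j, rfl⟩)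
    · rintro _ ⟨j, rfl⟩
      rcases eq_or_ne j i with rfl | hj
      · rw [SetLike.mem_coe, ← Ideal.unit_mul_mem_iff_mem _ hu]
        rw [← Finset.add_sum_erase _ _ (Finset.mem_univ j)] at hc
        rw [show c j * G j = g * f - ∑ x ∈ Finset.univ.erase j, c x * G x by linear_combination hc]
        refine sub_mem (Ideal.mul_mem_left _ _ ?_) (Submodule.sum_mem _ fun x hx => Ideal.mul_mem_left _ _ ?_)
        · exact Ideal.subset_span ⟨j, Function.update_self _ _ _⟩
        · exact Ideal.subset_span ⟨x, Function.update_of_ne (Finset.mem_erase.1 hx).1 _ _⟩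
      · exact Ideal.subset_span ⟨j, Function.update_of_ne hj _ _⟩
    · rw [Ideal.span_singleton_le_iff_mem]; exact Ideal.subset_span ⟨i, Function.update_self _ _ _⟩
  exfalso
  push Not at hcu
  by_cases hgu : IsUnit g
  · exact hfJ ((Ideal.unit_mul_mem_iff_mem _ hgu).1 hfg)
  let G' : ℕ → A := fun i => if h : i < n then G ⟨i, h⟩ else 0
  let b' : ℕ → A := fun i => if h : i < n then -c ⟨i, h⟩ else 0
  have hid : kideal G' n = J := by
    refine congrArg Ideal.span (Set.ext fun x => ⟨?_, ?_⟩)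
    · rintro ⟨i, hi, rfl⟩; exact ⟨⟨i, hi⟩, by simp [G', show i < n from hi]⟩
    · rintro ⟨i, rfl⟩; exact ⟨i, i.2, by simp [G']⟩
  have hkid : ∀ i, i ≤ n → kideal G' i = Ideal.ofList ((List.ofFn G).take i) := by
    intro i hi
    induction i with
    | zero => simp [kideal]
    | succ i ih => rw [kideal_succ, Groth.L12.GrCI.ofList_take_succ G ⟨i, hi⟩, ih (by omega)]; simp [G', show i < n from hi]
  have hreg' : KReg G' n := fun i hi a ha => by
    rw [hkid i hi.le] at ha ⊢
    refine (Groth.L12.GrCI.wreg_ofFn_iff G).1 hreg ⟨i, hi⟩ a ?_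
    simpa [G', hi, mul_comm] using ha
  have hann : CAnn G' n f g := by
    have conv : ∀ a x : A, a * x ∈ J → Ideal.Quotient.mk J a * Ideal.Quotient.mk J x = 0 := fun a x h => by
      rw [← map_mul]; exact Ideal.Quotient.eq_zero_iff_mem.2 h
    have back : ∀ a x : A, Ideal.Quotient.mk J a ∈ Ideal.span {Ideal.Quotient.mk J x} → a ∈ J ⊔ Ideal.span {x} := fun a x h => by
      obtain ⟨q, hq⟩ := Ideal.mem_span_singleton'.1 h
      obtain ⟨q, rfl⟩ := Ideal.Quotient.mk_surjective q
      rw [← map_mul, Ideal.Quotient.eq] at hq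
      rw [show a = -(q * x - a) + q * x by ring]
      exact add_mem (Ideal.mem_sup_left (neg_mem hq)) (Ideal.mem_sup_right (Ideal.mem_span_singleton'.2 ⟨q, rfl⟩))
    constructor <;> intro a ha <;> rw [hid] at ha ⊢
    · exact back a g ((hgf _).1 (conv a f ha))
    · exact back a f ((hgg _).1 (conv a g ha))
  obtain ⟨d, hd⟩ := Groth.L01.exists_dim_eq_nat (R := A)
  refine false_of_periodic (G := G') (b := b') (n := n) (f := f) (g := g) d
    (fun M => Groth.L04.hasProjectiveDimensionLE_of_regularLocal hd M) hreg' hann ?_ ?_ ?_ hf ((mem_maximalIdeal g).2 hgu)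
    (fun h => hfJ (h ▸ zero_mem J)) (fun h => hgJ (h ▸ zero_mem J))
  · rw [Finset.sum_range]
    simp only [G', b', Fin.is_lt, dif_pos, Fin.eta, mul_neg, Finset.sum_neg_distrib]
    rw [neg_inj, mul_comm f g, ← hc]
    exact Finset.sum_congr rfl fun i _ => mul_comm _ _
  · intro i hi; simp only [G', dif_pos hi]; exact hG _
  · intro i hi; simp only [b', dif_pos hi]; exact neg_mem ((mem_maximalIdeal _).2 (hcu _))

end Groth.L03.Frobun
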