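import Groth.Agent.L03.Frobun.Kunz
import Groth.Agent.L03.Frobun.Count
import Groth.Agent.L07.CIField
import Groth.Agent.L02.CAlg.FlatEnvelope.Regular
import Groth.Prelude.Def_CInt
import Mathlib.RingTheory.RegularLocalRing.Polynomial
import Mathlib.GroupTheory.CosetCover
import Mathlib.LinearAlgebra.Matrix.Rank

/-!
# Local structure at a point of the base scheme
-/

set_option autoImplicit false

namespace Groth.L03.Frobun

open MvPolynomial IsLocalRing

universe u

variable {k : Type u} [Field k] {n : ℕ} {F : Fin (n + 1) → MvPolynomial (Fin (n + 1)) k}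
  {q : Ideal (MvPolynomial (Fin (n + 1)) k)} [q.IsPrime]

variable (F q) in
/-- The ideal of the base scheme in the local ring of affine space. -/
noncomputable def locIdeal : Ideal (Localization.AtPrime q) :=
  (Ideal.span (Set.range F)).map (algebraMap (MvPolynomial (Fin (n + 1)) k) (Localization.AtPrime q))

theorem locIdeal_eq : locIdeal F q =
    Ideal.span (Set.range fun i => algebraMap (MvPolynomial (Fin (n + 1)) k) (Localization.AtPrime q) (F i)) := by
  rw [locIdeal, Ideal.map_span, ← Set.range_comp]; rfl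

theorem gens_of_syz (h : Syz F q) : ∃ K : Fin n → Localization.AtPrime q, Ideal.span (Set.range K) = locIdeal F q := by
  classical
  obtain ⟨b, hb, i₀, hi₀⟩ := h
  let f := fun i => algebraMap (MvPolynomial (Fin (n + 1)) k) (Localization.AtPrime q) (F i)
  refine ⟨f ∘ i₀.succAbove, ?_⟩
  rw [locIdeal_eq]
  refine le_antisymm (Ideal.span_mono (Set.range_comp_subset_range _ _)) (Ideal.span_le.2 ?_)
  rintro _ ⟨i, rfl⟩
  rcases Fin.eq_self_or_eq_succAbove i₀ i with rfl | ⟨j, rfl⟩
  swap
  · exact Ideal.subset_span ⟨j, rfl⟩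
  have hu : IsUnit (algebraMap (MvPolynomial (Fin (n + 1)) k) (Localization.AtPrime q) (b i)) :=
    IsLocalization.map_units _ (⟨b i, hi₀⟩ : q.primeCompl)
  have h := congrArg (algebraMap (MvPolynomial (Fin (n + 1)) k) (Localization.AtPrime q)) hb
  rw [Fin.sum_univ_succAbove _ i, map_add, map_zero, map_sum, map_mul] at h
  rw [SetLike.mem_coe, ← Ideal.unit_mul_mem_iff_mem _ hu, eq_neg_of_add_eq_zero_left h]
  refine neg_mem (Ideal.sum_mem _ fun j _ => ?_)
  rw [map_mul]
  exact Ideal.mul_mem_left _ _ (Ideal.subset_span ⟨j, rfl⟩)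

theorem syz_of_gens {K : Fin n → Localization.AtPrime q} (hK : Ideal.span (Set.range K) = locIdeal F q) : Syz F q := by
  classical
  let A := Localization.AtPrime q
  let f := fun i => algebraMap (MvPolynomial (Fin (n + 1)) k) A (F i)
  rw [locIdeal_eq] at hK
  have hN : ∀ i, ∃ c : Fin n → A, ∑ j, c j • K j = f i := fun i =>
    (Submodule.mem_span_range_iff_exists_fun A).1 (hK.symm ▸ Ideal.subset_span ⟨i, rfl⟩ : f i ∈ Ideal.span (Set.range K))
  have hM : ∀ j, ∃ c : Fin (n + 1) → A, ∑ i, c i • f i = K j := fun j =>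
    (Submodule.mem_span_range_iff_exists_fun A).1 (hK ▸ Ideal.subset_span ⟨j, rfl⟩ : K j ∈ Ideal.span (Set.range f))
  choose cN hcN using hN
  choose cM hcM using hM
  let N : Matrix (Fin (n + 1)) (Fin n) A := Matrix.of cN
  let M : Matrix (Fin n) (Fin (n + 1)) A := Matrix.of cM
  let C' : Matrix (Fin (n + 1)) (Fin (n + 1)) A := N * M - 1
  have hf : Matrix.mulVec C' f = 0 := by
    have h1 : Matrix.mulVec M f = K := funext fun j => hcM j
    have h2 : Matrix.mulVec N K = f := funext fun i => hcN i
    simp only [C']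
    rw [Matrix.sub_mulVec, ← Matrix.mulVec_mulVec, h1, h2, Matrix.one_mulVec, sub_self]
  obtain ⟨i, j, hij⟩ : ∃ i j, IsUnit (C' i j) := by
    by_contra hcon
    push Not at hcon
    have h : (N.map (residue A)) * (M.map (residue A)) = 1 := by
      have h0 : C'.map (residue A) = 0 := by
        ext i j
        exact (residue_eq_zero_iff _).2 ((mem_maximalIdeal _).2 (hcon i j))
      have hs : C'.map (residue A) = (N * M).map (residue A) - (1 : Matrix (Fin (n + 1)) (Fin (n + 1)) A).map (residue A) :=
        Matrix.map_sub _ (map_sub _) _ _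
      rw [hs, Matrix.map_mul, Matrix.map_one _ (map_zero _) (map_one _), sub_eq_zero] at h0
      exact h0
    have h1 := Matrix.rank_mul_le_left (N.map (residue A)) (M.map (residue A))
    rw [h, Matrix.rank_one, Fintype.card_fin] at h1
    have h2 := Matrix.rank_le_width (N.map (residue A))
    omega
  obtain ⟨⟨s, hs⟩, hint⟩ := IsLocalization.exist_integer_multiples_of_finite q.primeCompl fun l => C' i l
  choose a ha using hint
  have hsum : algebraMap (MvPolynomial (Fin (n + 1)) k) A (∑ l, a l * F l) = 0 := by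
    have h3 := congrFun hf i
    simp only [Matrix.mulVec, dotProduct, Pi.zero_apply] at h3
    rw [map_sum, ← mul_zero (algebraMap (MvPolynomial (Fin (n + 1)) k) A s), ← h3, Finset.mul_sum]
    refine Finset.sum_congr rfl fun l _ => ?_
    rw [map_mul, ha l, Algebra.smul_def, mul_assoc]
  refine ⟨a, ?_, j, fun hj => ?_⟩
  · obtain ⟨⟨t, ht⟩, htz⟩ := (IsLocalization.map_eq_zero_iff q.primeCompl A _).1 hsum
    exact (mul_eq_zero.1 htz).resolve_left fun h => ht (by rw [show t = 0 from h]; exact zero_mem q)
  · have h4 := (IsLocalization.AtPrime.to_map_mem_maximal_iff A q (a j)).2 hj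
    rw [ha j, Algebra.smul_def] at h4
    exact (mem_maximalIdeal _).1 h4 ((IsLocalization.map_units A (⟨s, hs⟩ : q.primeCompl)).mul hij)

variable (hq : q ∈ (Ideal.span (Set.range F)).minimalPrimes)

include hq in
theorem eq_maximalIdeal {P : Ideal (Localization.AtPrime q)} (hP : P.IsPrime) (h : locIdeal F q ≤ P) :
    P = maximalIdeal _ := by
  have h1 : P.comap (algebraMap (MvPolynomial (Fin (n + 1)) k) (Localization.AtPrime q)) ≤ q := by
    intro x hx
    by_contra hxq
    exact hP.ne_top (P.eq_top_of_isUnit_mem hx (IsLocalization.map_units _ (⟨x, hxq⟩ : q.primeCompl)))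
  have h2 := le_antisymm h1 (hq.2 ⟨Ideal.comap_isPrime _ _, Ideal.map_le_iff_le_comap.1 h⟩ h1)
  exact (IsLocalization.map_under q.primeCompl _ P).symm.trans
    ((congrArg (Ideal.map _) h2).trans Localization.AtPrime.map_eq_maximalIdeal)

include hq in
theorem locIdeal_le : locIdeal F q ≤ maximalIdeal _ := by
  rw [locIdeal, ← Localization.AtPrime.map_eq_maximalIdeal]
  exact Ideal.map_mono hq.1.2

include hq in
theorem dim_quotient : ringKrullDim (Localization.AtPrime q ⧸ locIdeal F q) = 0 := by
  have := Ideal.Quotient.nontrivial_iff.2 fun h => (maximalIdeal.isMaximal (Localization.AtPrime q)).ne_top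
    (top_le_iff.1 (h ▸ locIdeal_le hq))
  refine (ringKrullDimZero_iff_ringKrullDim_eq_zero).1 (Ring.krullDimLE_zero_iff.2 fun P hP => ?_)
  have h := eq_maximalIdeal hq (P.comap_isPrime (Ideal.Quotient.mk (locIdeal F q)))
    ((Ideal.mk_ker (I := locIdeal F q)).ge.trans (Ideal.comap_mono bot_le))
  rw [← Ideal.map_comap_of_surjective _ Ideal.Quotient.mk_surjective P, h]
  exact Ideal.IsMaximal.map_of_surjective_of_ker_le Ideal.Quotient.mk_surjective
    (by rw [Ideal.mk_ker]; exact locIdeal_le hq)

instance : IsRegularLocalRing (Localization.AtPrime q) := IsRegularRing.isRegularLocalRing_localization q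

include hq in
theorem isRegular_of_gens {c : ℕ} (hc : q.height = c) {K : Fin c → Localization.AtPrime q}
    (hK : Ideal.span (Set.range K) = locIdeal F q) :
    CInt.IsRegularIdeal (locIdeal F q) ∧ LocCoh.IsGorensteinLocalRing (Localization.AtPrime q ⧸ locIdeal F q) := by
  have hl : Ideal.ofList (List.ofFn K) = locIdeal F q := by
    rw [Groth.L07.RegIdeal.ofList_ofFn]; exact hK
  have hmem : ∀ r ∈ List.ofFn K, r ∈ maximalIdeal (Localization.AtPrime q) := fun r hr =>
    locIdeal_le hq (hl ▸ Ideal.subset_span hr)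
  have hreg := Groth.L07.RegQuot.isWeaklyRegular_of_dim _ hmem (by
    rw [hl, dim_quotient hq, List.length_ofFn,
      IsLocalization.AtPrime.ringKrullDim_eq_height q, hc, zero_add]; rfl)
  refine ⟨⟨_, RingTheory.Sequence.IsRegular.of_isWeaklyRegular_of_mem_maximalIdeal _ hmem hreg, hl⟩, ?_⟩
  have : LocCoh.IsGorensteinLocalRing (Localization.AtPrime q) := Groth.Agent.S0342.result _
  exact Groth.L21.GorensteinAscend.isGorensteinLocalRing_of_ringEquiv (Ideal.quotEquivOfEq hl)
    (Groth.L21.GorensteinLCI.gorenstein_quot_list _ _ hmem hreg)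

include hq in
theorem gens_of_isRegularIdeal (hc : q.height = n) (h : CInt.IsRegularIdeal (locIdeal F q)) :
    ∃ K : Fin n → Localization.AtPrime q, Ideal.span (Set.range K) = locIdeal F q := by
  obtain ⟨rs, hrs, hI⟩ := h
  have hlen := ringKrullDim_add_length_eq_ringKrullDim_of_isRegular rs hrs
  rw [hI, dim_quotient hq, zero_add,
    IsLocalization.AtPrime.ringKrullDim_eq_height q, hc] at hlen
  have hn : rs.length = n := by exact_mod_cast hlen
  refine ⟨rs.get ∘ finCongr hn.symm, ?_⟩
  rw [(finCongr hn.symm).surjective.range_comp, ← hI, Set.range_list_get]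

omit [q.IsPrime] in
/-- Avoiding the primes of small height. -/
theorem exists_combinations [Infinite k] (hq : q ∈ (Ideal.span (Set.range F)).minimalPrimes) (hc : q.height = n) :
    ∀ j ≤ n, ∃ c : Fin j → Fin (n + 1) → k, LinearIndependent k c ∧
      ∀ P : Ideal (MvPolynomial (Fin (n + 1)) k), P.IsPrime →
        Ideal.span (Set.range fun i => Fintype.linearCombination k F (c i)) ≤ P → P ≤ q → (j : ℕ∞) ≤ P.height := by
  classical
  intro j
  induction j with
  | zero => exact fun _ => ⟨Fin.elim0, linearIndependent_empty_type, fun P _ _ _ => by simp⟩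
  | succ j ih =>
    intro hj
    obtain ⟨c, hli, hh⟩ := ih (by omega)
    let g := fun i => Fintype.linearCombination k F (c i)
    have hfin : (Ideal.span (Set.range g)).minimalPrimes.Finite := Ideal.finite_minimalPrimes_of_isNoetherianRing _ _
    let bad : Finset (Submodule k (Fin (n + 1) → k)) := insert (Submodule.span k (Set.range c))
      ((hfin.toFinset.filter fun P => P ≤ q ∧ P.height = j).image
        fun P => (P.restrictScalars k).comap (Fintype.linearCombination k F))
    have htop : (⊤ : Submodule k (Fin (n + 1) → k)) ∉ bad := by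
      simp only [bad, Finset.mem_insert, Finset.mem_image, Finset.mem_filter, not_or, not_exists, not_and]
      refine ⟨fun h => ?_, fun P hP h => ?_⟩
      · have h1 := finrank_range_le_card (R := k) c
        rw [Set.finrank, ← h, finrank_top, Module.finrank_fin_fun, Fintype.card_fin] at h1
        omega
      · obtain ⟨hPm, hPq, hPh⟩ := hP
        have hPp := ((hfin.mem_toFinset).1 hPm).1.1
        have hIP : Ideal.span (Set.range F) ≤ P := Ideal.span_le.2 (by
          rintro _ ⟨i, rfl⟩
          have : Pi.single i 1 ∈ (P.restrictScalars k).comap (Fintype.linearCombination k F) := h ▸ Submodule.mem_top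
          simpa using this)
        have := le_antisymm hPq (hq.2 ⟨hPp, hIP⟩ hPq)
        rw [this, hc, Nat.cast_inj] at hPh
        omega
    obtain ⟨v, hv⟩ : ∃ v, ∀ S ∈ bad, v ∉ S := by
      by_contra hcon
      push Not at hcon
      refine Subspace.biUnion_ne_univ_of_top_notMem htop (Set.eq_univ_of_forall fun x => ?_)
      obtain ⟨S, hS, hx⟩ := hcon x
      exact Set.mem_iUnion₂.2 ⟨S, hS, hx⟩
    refine ⟨Fin.snoc c v, linearIndependent_finSnoc.2 ⟨hli, hv _ (Finset.mem_insert_self _ _)⟩, fun P hP hle hPq => ?_⟩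
    have hgP : Ideal.span (Set.range g) ≤ P := Ideal.span_le.2 (by
      rintro _ ⟨i, rfl⟩
      exact hle (Ideal.subset_span ⟨i.castSucc, by simp [g]⟩))
    have hvP : Fintype.linearCombination k F v ∈ P := hle (Ideal.subset_span ⟨Fin.last j, by simp⟩)
    obtain ⟨P₀, hP₀, hP₀P⟩ := Ideal.exists_minimalPrimes_le hgP
    have := hP₀.1.1
    have h0 := hh P₀ hP₀.1.1 hP₀.1.2 (hP₀P.trans hPq)
    rcases h0.eq_or_lt with h0 | h0
    · have hne : P₀ ≠ P := fun e => hv _ (Finset.mem_insert_of_mem (Finset.mem_image.2
        ⟨P₀, Finset.mem_filter.2 ⟨hfin.mem_toFinset.2 hP₀, hP₀P.trans hPq, h0.symm⟩, rfl⟩)) (e ▸ hvP :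
          Fintype.linearCombination k F v ∈ P₀)
      have h1 := Ideal.height_add_one_le_of_lt_of_isPrime (lt_of_le_of_ne hP₀P hne)
      rw [← h0] at h1
      exact_mod_cast h1
    · exact (Order.add_one_le_of_lt h0 : (j : ℕ∞) + 1 ≤ P₀.height).trans (Ideal.height_mono hP₀P) |> fun h => by
        exact_mod_cast h

include hq in
theorem gens_of_gorenstein [Infinite k] (hc : q.height = n)
    (hG : LocCoh.IsGorensteinLocalRing (Localization.AtPrime q ⧸ locIdeal F q)) :
    ∃ K : Fin n → Localization.AtPrime q, Ideal.span (Set.range K) = locIdeal F q := by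
  classical
  obtain ⟨c, hli, hh⟩ := exists_combinations hq hc n le_rfl
  let g := fun i => Fintype.linearCombination k F (c i)
  have hspan : Submodule.span k (Set.range c) ≠ ⊤ := fun h => by
    have h1 := finrank_range_le_card (R := k) c
    rw [Set.finrank, h, finrank_top, Module.finrank_fin_fun, Fintype.card_fin] at h1
    omega
  obtain ⟨v, -, hv⟩ := SetLike.exists_of_lt hspan.lt_top
  have hli' : LinearIndependent k (Fin.snoc c v) := linearIndependent_finSnoc.2 ⟨hli, hv⟩
  have htop : Submodule.span k (Set.range (Fin.snoc c v : Fin (n + 1) → Fin (n + 1) → k)) = ⊤ :=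
    hli'.span_eq_top_of_card_eq_finrank (by simp)
  let f := Fintype.linearCombination k F v
  have hmem : ∀ w, Fintype.linearCombination k F w ∈ Ideal.span (Set.range F) := fun w => by
    rw [Fintype.linearCombination_apply]
    exact Ideal.sum_mem _ fun i _ => by rw [Algebra.smul_def]; exact Ideal.mul_mem_left _ _ (Ideal.subset_span ⟨i, rfl⟩)
  have hI : Ideal.span (Set.range F) = Ideal.span (Set.range g) ⊔ Ideal.span {f} := by
    refine le_antisymm (Ideal.span_le.2 ?_) (sup_le (Ideal.span_le.2 ?_) ?_)
    · rintro _ ⟨i, rfl⟩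
      have : ∀ w, w ∈ Submodule.span k (Set.range (Fin.snoc c v : Fin (n + 1) → Fin (n + 1) → k)) →
          Fintype.linearCombination k F w ∈ Ideal.span (Set.range g) ⊔ Ideal.span {f} := by
        intro w hw
        refine (Submodule.span_le.2 ?_ : Submodule.span k _ ≤
          ((Ideal.span (Set.range g) ⊔ Ideal.span {f}).restrictScalars k).comap (Fintype.linearCombination k F)) hw
        rintro _ ⟨l, rfl⟩
        rw [SetLike.mem_coe, Submodule.mem_comap, Submodule.restrictScalars_mem]
        refine Fin.lastCases ?_ (fun l => ?_) l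
        · rw [Fin.snoc_last]
          exact Ideal.mem_sup_right (Ideal.mem_span_singleton_self f)
        · rw [Fin.snoc_castSucc]
          exact Ideal.mem_sup_left (Ideal.subset_span ⟨l, rfl⟩)
      simpa using this (Pi.single i 1) (htop ▸ Submodule.mem_top)
    · rintro _ ⟨i, rfl⟩; exact hmem _
    · rw [Ideal.span_singleton_le_iff_mem]; exact hmem _
  let al := algebraMap (MvPolynomial (Fin (n + 1)) k) (Localization.AtPrime q)
  have hloc : locIdeal F q = Ideal.span (Set.range (al ∘ g)) ⊔ Ideal.span {al f} := by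
    rw [locIdeal, hI, Ideal.map_sup, Ideal.map_span, Ideal.map_span, ← Set.range_comp, Set.image_singleton]
  have hgq : Ideal.span (Set.range g) ≤ q := (hI ▸ le_sup_left : _ ≤ Ideal.span (Set.range F)).trans hq.1.2
  have hm : ∀ x ∈ locIdeal F q, x ∈ maximalIdeal _ := fun x hx => locIdeal_le hq hx
  obtain ⟨K, hK⟩ := exists_generators_of_gorenstein (al ∘ g)
    (fun i => hm _ (hloc ▸ Ideal.mem_sup_left (Ideal.subset_span ⟨i, rfl⟩)))
    (Groth.L07.CIField.isRegular_of_height g q hgq fun P hP h1 h2 => hh P hP h1 h2).toIsWeaklyRegular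
    (fun P hP hle => by
      have h1 : P.comap al ≤ q := fun x hx => by
        by_contra hxq
        exact hP.ne_top (P.eq_top_of_isUnit_mem hx (IsLocalization.map_units _ (⟨x, hxq⟩ : q.primeCompl)))
      have := Ideal.comap_isPrime al P
      have h2 := hh (P.comap al) this (Ideal.span_le.2 (by
        rintro _ ⟨i, rfl⟩; exact hle (Ideal.subset_span ⟨i, rfl⟩))) h1
      rcases h1.eq_or_lt with e | hlt
      · exact (IsLocalization.map_under q.primeCompl _ P).symm.trans
          ((congrArg (Ideal.map al) e).trans Localization.AtPrime.map_eq_maximalIdeal)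
      · exfalso
        have h3 := Ideal.height_add_one_le_of_lt_of_isPrime hlt
        rw [hc] at h3
        have h4 := (add_le_add_left h2 1).trans h3
        rw [← Nat.cast_one, ← Nat.cast_add, Nat.cast_le] at h4
        omega)
    (al f) (hm _ (hloc ▸ Ideal.mem_sup_right (Ideal.mem_span_singleton_self _)))
    (Groth.L21.GorensteinAscend.isGorensteinLocalRing_of_ringEquiv (Ideal.quotEquivOfEq hloc) hG)
  exact ⟨K, hK.trans hloc.symm⟩

end Groth.L03.Frobun
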