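import Groth.Agent.L03.Frobun.Graded
import Mathlib.RingTheory.AlgebraicIndependent.TranscendenceBasis
import Mathlib.FieldTheory.IntermediateField.Adjoin.Algebra
import Mathlib.RingTheory.Localization.FractionRing

/-!
# The field of a rational self map of projective space
-/

set_option autoImplicit false

namespace Groth.L03.Frobun

open MvPolynomial

universe u

variable {k : Type u} [Field k] {n : ℕ}

/-- The field of moving data of a rational map given by forms. -/
structure Model (F : Fin (n + 1) → MvPolynomial (Fin (n + 1)) k) (ℓ : MvPolynomial (Fin (n + 1)) k)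
    (K0 L0 : Type u) [Field K0] [Field L0] [Algebra k K0] [Algebra K0 L0] [Algebra k L0]
    [IsScalarTower k K0 L0] where
  lam : Fin n → K0
  xx : Fin (n + 1) → L0
  frac : ∀ c : K0, ∃ p q : MvPolynomial (Fin n) k, aeval lam q ≠ 0 ∧ c * aeval lam q = aeval lam p
  li : ∀ (c0 : k) (c : Fin n → k), algebraMap k K0 c0 + ∑ i, algebraMap k K0 (c i) * lam i = 0 →
    c0 = 0 ∧ ∀ i, c i = 0
  map_line : aeval xx ℓ = (1 : L0)
  map_succ : ∀ i, aeval xx (F i.succ) = algebraMap K0 L0 (lam i) * aeval xx (F 0)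
  map_zero_ne : aeval xx (F 0) ≠ (0 : L0)
  inj : ∀ (u : ℕ) (P : MvPolynomial (Fin (n + 1)) k), P.IsHomogeneous u → aeval xx P = (0 : L0) → P = 0
  gen : Function.Surjective (aeval xx : MvPolynomial (Fin (n + 1)) K0 →ₐ[K0] L0)
  fin : Module.Finite K0 L0

local notation "R" => MvPolynomial (Fin (n + 1)) k
local notation "L" => FractionRing (MvPolynomial (Fin (n + 1)) k)
local notation "ι" => algebraMap (MvPolynomial (Fin (n + 1)) k) (FractionRing (MvPolynomial (Fin (n + 1)) k))

/-- The subfield of degree zero fractions. -/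
noncomputable def degZero : IntermediateField k L where
  carrier := {y | ∃ u, ∃ a b : R, a.IsHomogeneous u ∧ b.IsHomogeneous u ∧ b ≠ 0 ∧ y * ι b = ι a}
  add_mem' := by
    rintro y z ⟨u, a, b, ha, hb, hb0, h⟩ ⟨v, a', b', ha', hb', hb0', h'⟩
    refine ⟨u + v, a * b' + a' * b, b * b', (ha.mul hb').add (add_comm v u ▸ ha'.mul hb), hb.mul hb',
      mul_ne_zero hb0 hb0', ?_⟩
    simp only [map_add, map_mul, ← h, ← h']
    ring
  mul_mem' := by
    rintro y z ⟨u, a, b, ha, hb, hb0, h⟩ ⟨v, a', b', ha', hb', hb0', h'⟩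
    refine ⟨u + v, a * a', b * b', ha.mul ha', hb.mul hb', mul_ne_zero hb0 hb0', ?_⟩
    simp only [map_mul, ← h, ← h']
    ring
  algebraMap_mem' c := ⟨0, C c, 1, isHomogeneous_C _ _, isHomogeneous_one _ _, one_ne_zero, by
    rw [map_one, mul_one, IsScalarTower.algebraMap_apply k R L]; rfl⟩
  inv_mem' := by
    rintro y ⟨u, a, b, ha, hb, hb0, h⟩
    rcases eq_or_ne y 0 with rfl | hy
    · exact ⟨0, 0, 1, isHomogeneous_zero _ _ _, isHomogeneous_one _ _, one_ne_zero, by simp⟩
    have hb1 : ι b ≠ 0 := fun hb' => hb0 (IsFractionRing.injective R L (by rw [hb', map_zero]))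
    have ha0 : a ≠ 0 := fun h0 => mul_ne_zero hy hb1 (by rw [h, h0, map_zero])
    exact ⟨u, b, a, hb, ha, ha0, by rw [← h, inv_mul_cancel_left₀ hy]⟩

theorem mem_degZero {y : L} :
    y ∈ (degZero (k := k) (n := n)) ↔ ∃ u, ∃ a b : R, a.IsHomogeneous u ∧ b.IsHomogeneous u ∧ b ≠ 0 ∧ y * ι b = ι a :=
  Iff.rfl

theorem eq_zero_of_eval_eq_zero {ℓ : R} (hℓ : ℓ.IsHomogeneous 1) (hℓ0 : ℓ ≠ 0) (P : Polynomial L)
    (hP : ∀ i, P.coeff i ∈ (degZero (k := k) (n := n))) (h : P.eval (ι ℓ) = 0) : P = 0 := by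
  classical
  choose u a b ha hb hb0 hab using hP
  ext i
  rw [Polynomial.coeff_zero]
  by_contra hi
  let s := Finset.range (P.natDegree + 1)
  have his : i ∈ s := Finset.mem_range.2 (Nat.lt_succ_of_le (Polynomial.le_natDegree_of_ne_zero hi))
  let U := ∑ j ∈ s, u j
  let c : ℕ → R := fun j => a j * ∏ l ∈ s.erase j, b l
  have hc : ∀ j ∈ s, (c j).IsHomogeneous U := fun j hj => by
    rw [show U = u j + ∑ l ∈ s.erase j, u l from (Finset.add_sum_erase s u hj).symm]
    exact (ha j).mul (IsHomogeneous.prod _ _ _ fun l _ => hb l)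
  have hmul : ∀ j ∈ s, P.coeff j * ι (∏ l ∈ s, b l) = ι (c j) := fun j hj => by
    rw [← Finset.mul_prod_erase s b hj, map_mul, ← mul_assoc, hab j, ← map_mul]
  have hsum : ∑ j ∈ s, c j * ℓ ^ j = 0 := by
    refine IsFractionRing.injective R L ?_
    rw [map_zero, ← zero_mul (ι (∏ l ∈ s, b l)), ← h, Polynomial.eval_eq_sum_range, Finset.sum_mul, map_sum]
    refine Finset.sum_congr rfl fun j hj => ?_
    rw [map_mul, map_pow, ← hmul j hj]
    ring
  have h1 := congrArg (homogeneousComponent (U + i)) hsum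
  rw [map_zero, map_sum, Finset.sum_eq_single i] at h1
  · have hh : (c i * ℓ ^ i).IsHomogeneous (U + i) := by simpa using (hc i his).mul (hℓ.pow i)
    rw [homogeneousComponent_eq_self hh] at h1
    have := (mul_eq_zero.1 h1).resolve_right (pow_ne_zero _ hℓ0)
    refine hi (mul_right_cancel₀ (b := ι (∏ l ∈ s, b l)) ?_ ?_)
    · exact fun h0 => Finset.prod_ne_zero_iff.2 (fun l _ => hb0 l) (IsFractionRing.injective R L (by rw [h0, map_zero]))
    · rw [zero_mul, hmul i his, this, map_zero]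
  · intro j hj hji
    have hh : (c j * ℓ ^ j).IsHomogeneous (U + j) := by simpa using (hc j hj).mul (hℓ.pow j)
    rw [homogeneousComponent_of_mem hh, if_neg (by omega)]
  · exact fun h => absurd his h

theorem isAlgebraic_adjoin_range (F : Fin (n + 1) → R) (hind : AlgebraicIndependent k F) :
    Algebra.IsAlgebraic (IntermediateField.adjoin k (Set.range fun i => ι (F i))) L := by
  have hle : Algebra.trdeg k R ≤ Cardinal.mk (ULift.{u} (Fin (n + 1))) := by
    rw [MvPolynomial.trdeg_of_isDomain]; simp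
  have hB := AlgebraicIndependent.isTranscendenceBasis_of_lift_trdeg_le_of_finite hind
    (by rw [MvPolynomial.trdeg_of_isDomain]; simp)
  have : Algebra.IsAlgebraic R L := IsLocalization.isAlgebraic L (nonZeroDivisors R)
  exact (hB.algebraMap_comp (A := L)).isAlgebraic_field

section

variable (F : Fin (n + 1) → MvPolynomial (Fin (n + 1)) k) (ℓ : MvPolynomial (Fin (n + 1)) k)

/-- The coordinates in the affine chart. -/
noncomputable def xc (j : Fin (n + 1)) : L := ι (X j) / ι ℓ

/-- The coordinates of the image. -/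
noncomputable def lamc (i : Fin n) : L := ι (F i.succ) / ι (F 0)

/-- The field of the image. -/
noncomputable abbrev K0c : IntermediateField k L := IntermediateField.adjoin k (Set.range (lamc F))

/-- The field of the source. -/
noncomputable abbrev L0c : IntermediateField (K0c F) L := IntermediateField.adjoin (K0c F) (Set.range (xc ℓ))

/-- The field generated by the forms. -/
noncomputable abbrev Kc : IntermediateField k L := IntermediateField.adjoin k (Set.range fun i => ι (F i))

/-- The value of the first form in the chart. -/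
noncomputable abbrev phi : L := aeval (xc ℓ) (F 0)

variable {F ℓ} {d : ℕ} (hd : 1 ≤ d) (hF : ∀ i, (F i).IsHomogeneous d) (hind : AlgebraicIndependent k F)
  (hℓ : ℓ.IsHomogeneous 1) (hℓ0 : ℓ ≠ 0)

include hℓ0 in
theorem iota_line_ne : ι ℓ ≠ 0 := fun h => hℓ0 (IsFractionRing.injective R L (by rw [h, map_zero]))

include hind in
theorem iota_zero_ne : ι (F 0) ≠ 0 :=
  fun h => hind.ne_zero 0 (IsFractionRing.injective R L (by rw [h, map_zero]))

include hℓ0 in
theorem iota_eq {f : R} {u : ℕ} (hf : f.IsHomogeneous u) : ι f = ι ℓ ^ u * aeval (xc ℓ) f := by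
  rw [← aeval_mul_of_isHomogeneous hf]
  have h : aeval (fun j => ι (X j)) f = ι f := by
    rw [show (fun j => ι (X j)) = ⇑(algebraMap R L) ∘ (X : Fin (n + 1) → R) from rfl, aeval_algebraMap_apply,
      MvPolynomial.aeval_X_left_apply]
  rw [← h]
  congr 1
  exact congrArg _ (funext fun j => (mul_div_cancel₀ _ (iota_line_ne hℓ0)).symm)

include hF hind hℓ0 in
theorem phi_ne : phi F ℓ ≠ 0 := fun h => iota_zero_ne hind (by rw [iota_eq hℓ0 (hF 0), show aeval (xc ℓ) (F 0) = 0 from h, mul_zero])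

include hF hind in
theorem K0c_le_degZero : K0c F ≤ degZero :=
  IntermediateField.adjoin_le_iff.2 (Set.range_subset_iff.2 fun i =>
    mem_degZero.2 ⟨d, F i.succ, F 0, hF _, hF 0, hind.ne_zero 0, div_mul_cancel₀ _ (iota_zero_ne hind)⟩)

include hF hind hℓ hℓ0 in
theorem mem_degZero_of_mem {y : L} (hy : y ∈ L0c F ℓ) : y ∈ degZero (k := k) (n := n) := by
  have : L0c F ℓ ≤ IntermediateField.extendScalars (K0c_le_degZero hF hind) :=
    IntermediateField.adjoin_le_iff.2 (Set.range_subset_iff.2 fun j =>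
      mem_degZero.2 ⟨1, X j, ℓ, isHomogeneous_X _ _, hℓ, hℓ0, div_mul_cancel₀ _ (iota_line_ne hℓ0)⟩)
  exact this hy

theorem xc_mem (j : Fin (n + 1)) : xc ℓ j ∈ L0c F ℓ := IntermediateField.subset_adjoin _ _ ⟨j, rfl⟩

theorem aeval_mem (f : R) : aeval (xc ℓ) f ∈ L0c F ℓ := by
  have : aeval (xc ℓ) f ∈ ((L0c F ℓ).restrictScalars k).toSubalgebra := by
    induction f using MvPolynomial.induction_on with
    | C a => rw [aeval_C]; exact Subalgebra.algebraMap_mem _ a
    | add p q hp hq => rw [map_add]; exact add_mem hp hq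
    | mul_X p j hp => rw [map_mul, aeval_X]; exact mul_mem hp (xc_mem j)
  exact this

theorem K0c_le_Kc : K0c F ≤ Kc F :=
  IntermediateField.adjoin_le_iff.2 (Set.range_subset_iff.2 fun i =>
    (Kc F).div_mem (IntermediateField.subset_adjoin _ _ ⟨i.succ, rfl⟩) (IntermediateField.subset_adjoin _ _ ⟨0, rfl⟩))

include hind in
theorem exists_frac {c : L} (hc : c ∈ Kc F) : ∃ p q : Polynomial (K0c F), Polynomial.aeval (ι (F 0)) q ≠ 0 ∧
    c * Polynomial.aeval (ι (F 0)) q = Polynomial.aeval (ι (F 0)) p := by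
  have hF0 := iota_zero_ne hind
  have hle : Kc F ≤ (IntermediateField.adjoin (K0c F) {ι (F 0)}).restrictScalars k := by
    refine IntermediateField.adjoin_le_iff.2 (Set.range_subset_iff.2 fun i => ?_)
    have h0 : ι (F 0) ∈ IntermediateField.adjoin (K0c F) {ι (F 0)} := IntermediateField.mem_adjoin_simple_self _ _
    refine Fin.cases h0 (fun j => ?_) i
    have hj : lamc F j ∈ IntermediateField.adjoin (K0c F) {ι (F 0)} :=
      IntermediateField.algebraMap_mem _ (⟨lamc F j, IntermediateField.subset_adjoin _ _ ⟨j, rfl⟩⟩ : (K0c F))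
    have := mul_mem hj h0
    rwa [lamc, div_mul_cancel₀ _ hF0] at this
  obtain ⟨p, q, hpq⟩ := (IntermediateField.mem_adjoin_simple_iff (K0c F) c).1 (hle hc)
  by_cases hq : Polynomial.aeval (ι (F 0)) q = 0
  · exact ⟨0, 1, by simp, by rw [hpq, hq]; simp⟩
  · exact ⟨p, q, hq, by rw [hpq, div_mul_cancel₀ _ hq]⟩

include hd hF hind hℓ hℓ0 in
theorem linearIndependent_mul_pow {τ : Type u} (b : τ → L) (hb : ∀ r, b r ∈ L0c F ℓ) (hli : LinearIndependent (K0c F) b) :
    LinearIndependent (Kc F) fun ri : τ × Fin d => b ri.1 * ι ℓ ^ (ri.2 : ℕ) := by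
  classical
  have hφ : ι (F 0) = ι ℓ ^ d * phi F ℓ := iota_eq hℓ0 (hF 0)
  rw [linearIndependent_iff']
  intro s c hc
  choose p q hq hpq using fun ri => exists_frac hind (c ri).2
  let p' : τ × Fin d → Polynomial (K0c F) := fun ri => p ri * ∏ sj ∈ s.erase ri, q sj
  have hp' : ∀ ri ∈ s, Polynomial.aeval (ι (F 0)) (p' ri) = (c ri : L) * ∏ sj ∈ s, Polynomial.aeval (ι (F 0)) (q sj) := by
    intro ri hri
    rw [map_mul, map_prod, ← hpq, ← Finset.mul_prod_erase s _ hri]
    ring
  have hsum : ∑ ri ∈ s, Polynomial.aeval (ι (F 0)) (p' ri) * (b ri.1 * ι ℓ ^ (ri.2 : ℕ)) = 0 := by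
    rw [← zero_mul (∏ sj ∈ s, Polynomial.aeval (ι (F 0)) (q sj)), ← hc, Finset.sum_mul]
    refine Finset.sum_congr rfl fun ri hri => ?_
    rw [hp' ri hri, IntermediateField.smul_def, smul_eq_mul]
    ring
  let M := (s.sup fun ri => (p' ri).natDegree) + 1
  let P : Polynomial L := ∑ ri ∈ s, ∑ m ∈ Finset.range M,
    Polynomial.monomial ((ri.2 : ℕ) + d * m) (((p' ri).coeff m : L) * b ri.1 * phi F ℓ ^ m)
  have hPdeg : ∀ N, P.coeff N ∈ (degZero (k := k) (n := n)) := by
    intro N
    simp only [P, Polynomial.finsetSum_coeff, Polynomial.coeff_monomial]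
    refine sum_mem fun ri _ => sum_mem fun m _ => ?_
    split_ifs
    · exact mul_mem (mul_mem (K0c_le_degZero hF hind ((p' ri).coeff m).2) (mem_degZero_of_mem hF hind hℓ hℓ0 (hb _))) (pow_mem (mem_degZero_of_mem hF hind hℓ hℓ0 (aeval_mem _)) _)
    · exact zero_mem _
  have hPe : P.eval (ι ℓ) = 0 := by
    rw [← hsum]
    simp only [P, Polynomial.eval_finsetSum, Polynomial.eval_monomial]
    refine Finset.sum_congr rfl fun ri hri => ?_
    rw [Polynomial.aeval_eq_sum_range' (show (p' ri).natDegree < M from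
      Nat.lt_succ_of_le (Finset.le_sup (f := fun ri => (p' ri).natDegree) hri)), Finset.sum_mul]
    refine Finset.sum_congr rfl fun m _ => ?_
    rw [IntermediateField.smul_def, smul_eq_mul, hφ, mul_pow, pow_add, pow_mul]
    ring
  have h0 := eq_zero_of_eval_eq_zero hℓ hℓ0 P hPdeg hPe
  have hp0 : ∀ ri ∈ s, p' ri = 0 := by
    rintro ⟨r, i⟩ hri
    ext1 m
    rw [Polynomial.coeff_zero]
    by_cases hm : M ≤ m
    · exact Polynomial.coeff_eq_zero_of_natDegree_lt (lt_of_lt_of_le
        (Nat.lt_succ_of_le (Finset.le_sup (f := fun ri => (p' ri).natDegree) hri)) hm)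
    let t := (s.filter fun sj => sj.2 = i).image Prod.fst
    have hN := congrArg (fun Q : Polynomial L => Q.coeff ((i : ℕ) + d * m)) h0
    simp only [P, Polynomial.finsetSum_coeff, Polynomial.coeff_monomial, Polynomial.coeff_zero] at hN
    have hcoef : ∑ r' ∈ t, ((p' (r', i)).coeff m) • b r' = 0 := by
      refine mul_right_cancel₀ (b := phi F ℓ ^ m) (pow_ne_zero _ (phi_ne hF hind hℓ0)) ?_
      rw [zero_mul, Finset.sum_mul]
      refine Eq.trans ?_ hN
      rw [Finset.sum_image (fun a ha b' hb' hab => Prod.ext hab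
        ((Finset.mem_filter.1 ha).2.trans (Finset.mem_filter.1 hb').2.symm)), Finset.sum_filter]
      refine Finset.sum_congr rfl fun sj _ => ?_
      split_ifs with hsj
      · subst hsj
        rw [Finset.sum_eq_single m, if_pos rfl, IntermediateField.smul_def, smul_eq_mul]
        · intro m' _ hne
          exact if_neg fun he => hne (Nat.eq_of_mul_eq_mul_left hd (by omega))
        · intro h; exact absurd (Finset.mem_range.2 (not_le.1 hm)) h
      · symm
        refine Finset.sum_eq_zero fun m' _ => if_neg fun he => hsj (Fin.ext ?_)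
        have := congrArg (· % d) he
        simpa [Nat.add_mul_mod_self_left, Nat.mod_eq_of_lt sj.2.2, Nat.mod_eq_of_lt i.2] using this
    exact linearIndependent_iff'.1 hli t _ hcoef r (Finset.mem_image.2 ⟨(r, i), Finset.mem_filter.2 ⟨hri, rfl⟩, rfl⟩)
  intro ri hri
  have := hp' ri hri
  rw [hp0 ri hri, map_zero] at this
  exact Subtype.ext ((mul_eq_zero.1 this.symm).resolve_right (Finset.prod_ne_zero_iff.2 fun sj _ => hq sj))

include hd hF hind hℓ hℓ0 in
theorem isAlgebraic_xc (j : Fin (n + 1)) : IsAlgebraic (K0c F) (xc ℓ j) := by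
  classical
  have halg := isAlgebraic_adjoin_range F hind
  by_contra hn
  have hli : LinearIndependent (K0c F) fun m : ULift.{u} ℕ => xc ℓ j ^ m.down := by
    refine linearIndependent_iff'.2 fun s g hg m hm => ?_
    by_contra hgm
    refine hn ⟨∑ m ∈ s, Polynomial.monomial m.down (g m), fun h => hgm ?_, ?_⟩
    · have := congrArg (fun Q : Polynomial (K0c F) => Q.coeff m.down) h
      simpa [Polynomial.coeff_monomial, ULift.down_inj, hm] using this
    · simpa [Algebra.smul_def] using hg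
  have h2 := linearIndependent_mul_pow hd hF hind hℓ hℓ0 _ (fun m => pow_mem (xc_mem j) _) hli
  obtain ⟨P, hP0, hP⟩ := halg.isAlgebraic (xc ℓ j)
  refine hP0 (Polynomial.ext fun m => ?_)
  rw [Polynomial.coeff_zero]
  by_contra hm
  have h3 : ∑ m ∈ Finset.range (P.natDegree + 1), P.coeff m • (xc ℓ j ^ m * ι ℓ ^ ((⟨0, hd⟩ : Fin d) : ℕ)) = 0 := by
    rw [← hP, Polynomial.aeval_eq_sum_range]
    simp
  have h4 := h2.comp (fun m : ℕ => (ULift.up m, (⟨0, hd⟩ : Fin d))) (fun a b h => by simpa using h)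
  exact hm (linearIndependent_iff'.1 h4 _ _ h3 m (Finset.mem_range.2 (Nat.lt_succ_of_le (Polynomial.le_natDegree_of_ne_zero hm))))

include hd hF hind hℓ hℓ0 in
set_option maxHeartbeats 1000000 in
theorem finrank_eq : Module.finrank (Kc F) L = d * Module.finrank (K0c F) (L0c F ℓ) := by
  classical
  have hl0 := iota_line_ne (n := n) hℓ0
  have hφ : ι (F 0) = ι ℓ ^ d * phi F ℓ := iota_eq hℓ0 (hF 0)
  have hφ0 := phi_ne hF hind hℓ0
  have : FiniteDimensional (K0c F) (L0c F ℓ) := IntermediateField.finiteDimensional_adjoin fun y hy => by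
    obtain ⟨j, rfl⟩ := hy; exact (isAlgebraic_xc hd hF hind hℓ hℓ0 j).isIntegral
  let e := Module.finrank (K0c F) (L0c F ℓ)
  let bb := Module.finBasis (K0c F) (L0c F ℓ)
  let b : ULift.{u} (Fin e) → L := fun r => (bb r.down : L)
  have hbli : LinearIndependent (K0c F) b :=
    ((bb.linearIndependent.map' (L0c F ℓ).val.toLinearMap (LinearMap.ker_eq_bot.2 (L0c F ℓ).val.injective)).comp
      ULift.down ULift.down_injective)
  let v := fun ri : ULift.{u} (Fin e) × Fin d => b ri.1 * ι ℓ ^ (ri.2 : ℕ)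
  have hvli : LinearIndependent (Kc F) v := linearIndependent_mul_pow hd hF hind hℓ hℓ0 b (fun r => (bb r.down).2) hbli
  let S := Submodule.span (Kc F) (Set.range v)
  have hyl : ∀ (m : ℕ) (y : L), y ∈ L0c F ℓ → y * ι ℓ ^ m ∈ S := by
    have small : ∀ (i : Fin d) (y : L), y ∈ L0c F ℓ → y * ι ℓ ^ (i : ℕ) ∈ S := by
      intro i y hy
      have h := congrArg (fun z : L0c F ℓ => (z : L)) (bb.sum_repr ⟨y, hy⟩)
      simp only [AddSubmonoidClass.coe_finsetSum] at h
      rw [← h, Finset.sum_mul]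
      refine Submodule.sum_mem _ fun r _ => ?_
      have hmem := S.smul_mem (⟨(bb.repr ⟨y, hy⟩ r : L), K0c_le_Kc (bb.repr ⟨y, hy⟩ r).2⟩ : Kc F)
        (Submodule.subset_span (Set.mem_range_self (f := v) (ULift.up r, i)))
      rw [IntermediateField.smul_def, smul_eq_mul] at hmem
      rw [IntermediateField.coe_smul, IntermediateField.smul_def, smul_eq_mul, mul_assoc]
      exact hmem
    intro m y hy
    rw [← Nat.mod_add_div m d, pow_add, pow_mul]
    have hld : ι ℓ ^ d = ι (F 0) * (phi F ℓ)⁻¹ := by rw [hφ, mul_assoc, mul_inv_cancel₀ hφ0, mul_one]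
    rw [hld, mul_pow]
    have h1 := S.smul_mem ((⟨ι (F 0), IntermediateField.subset_adjoin _ _ ⟨0, rfl⟩⟩ : Kc F) ^ (m / d))
      (small ⟨m % d, Nat.mod_lt _ hd⟩ (y * (phi F ℓ)⁻¹ ^ (m / d)) (mul_mem hy (pow_mem (inv_mem (aeval_mem _)) _)))
    rw [IntermediateField.smul_def, smul_eq_mul, SubmonoidClass.coe_pow] at h1
    rwa [show y * (ι ℓ ^ (m % d) * (ι (F 0) ^ (m / d) * (phi F ℓ)⁻¹ ^ (m / d))) =
      ι (F 0) ^ (m / d) * (y * (phi F ℓ)⁻¹ ^ (m / d) * ι ℓ ^ (m % d)) by ring]
  have hmul : ∀ a c, a ∈ S → c ∈ S → a * c ∈ S := by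
    intro a c ha hc
    induction ha using Submodule.span_induction with
    | mem a ha =>
      obtain ⟨ri, rfl⟩ := ha
      induction hc using Submodule.span_induction with
      | mem c hc =>
        obtain ⟨sj, rfl⟩ := hc
        simp only [v]
        rw [mul_mul_mul_comm, ← pow_add]
        exact hyl _ _ (mul_mem (bb ri.1.down).2 (bb sj.1.down).2)
      | zero => rw [mul_zero]; exact zero_mem _
      | add x y _ _ hx hy => rw [mul_add]; exact add_mem hx hy
      | smul r x _ hx => rw [mul_smul_comm]; exact S.smul_mem _ hx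
    | zero => rw [zero_mul]; exact zero_mem _
    | add x y _ _ hx hy => rw [add_mul]; exact add_mem hx hy
    | smul r x _ hx => rw [smul_mul_assoc]; exact S.smul_mem _ hx
  have hone : (1 : L) ∈ S := by simpa using hyl 0 1 (one_mem (L0c F ℓ))
  have hιR : ∀ f : R, ι f ∈ S := by
    intro f
    induction f using MvPolynomial.induction_on with
    | C a =>
      have h := S.smul_mem (algebraMap k (Kc F) a) hone
      rw [IntermediateField.smul_def, smul_eq_mul, mul_one] at h
      rwa [← algebraMap_eq, ← IsScalarTower.algebraMap_apply]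
    | add p q hp hq => rw [map_add]; exact add_mem hp hq
    | mul_X p j hp =>
      rw [map_mul, iota_eq hℓ0 (isHomogeneous_X k j), aeval_X, mul_comm (ι ℓ ^ 1)]
      exact hmul _ _ hp (hyl 1 _ (xc_mem j))
  have hspan : S = ⊤ := by
    refine eq_top_iff.2 fun z _ => ?_
    obtain ⟨a, c, hc, rfl⟩ := IsFractionRing.div_surjective R z
    have hc0 : ι c ≠ 0 := IsFractionRing.to_map_ne_zero_of_mem_nonZeroDivisors hc
    have : FiniteDimensional (Kc F) S := FiniteDimensional.span_of_finite (Kc F) (Set.finite_range v)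
    let μ : S →ₗ[Kc F] S := (LinearMap.mulLeft (Kc F) (ι c)).restrict fun y hy => hmul _ _ (hιR c) hy
    have hμ : Function.Injective μ := fun y z h => Subtype.ext (mul_left_cancel₀ hc0 (congrArg Subtype.val h))
    obtain ⟨w, hw⟩ := LinearMap.injective_iff_surjective.1 hμ ⟨ι a, hιR a⟩
    have hw' : ι c * (w : L) = ι a := congrArg Subtype.val hw
    rw [← hw', mul_div_cancel_left₀ _ hc0]
    exact w.2
  rw [Module.finrank_eq_card_basis (Module.Basis.mk hvli (le_of_eq hspan.symm))]
  simp [mul_comm, e]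

include hd hF hind hℓ hℓ0 in
theorem exists_model : ∃ (K0 : IntermediateField k L) (L0 : IntermediateField K0 L), Nonempty (Model F ℓ K0 L0) ∧
    Module.finrank (Kc F) L = d * Module.finrank K0 L0 := by
  classical
  have hinj := IsFractionRing.injective R L
  have hl0 := iota_line_ne (n := n) hℓ0
  have hF0 := iota_zero_ne hind
  have hφ0 := phi_ne hF hind hℓ0
  have hfd : FiniteDimensional (K0c F) (L0c F ℓ) := IntermediateField.finiteDimensional_adjoin fun y hy => by
    obtain ⟨j, rfl⟩ := hy; exact (isAlgebraic_xc hd hF hind hℓ hℓ0 j).isIntegral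
  have hgenL : ∀ y ∈ L0c F ℓ, ∃ P : MvPolynomial (Fin (n + 1)) (K0c F), aeval (xc ℓ) P = y := by
    intro y hy
    have : y ∈ (L0c F ℓ).toSubalgebra := hy
    rw [IntermediateField.adjoin_toSubalgebra_of_isAlgebraic (fun z hz => by
      obtain ⟨j, rfl⟩ := hz; exact isAlgebraic_xc hd hF hind hℓ hℓ0 j), Algebra.adjoin_range_eq_range_aeval] at this
    exact this
  refine ⟨K0c F, L0c F ℓ, ⟨{
    lam := fun i => ⟨lamc F i, IntermediateField.subset_adjoin _ _ ⟨i, rfl⟩⟩
    xx := fun j => ⟨xc ℓ j, xc_mem j⟩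
    frac := fun c => ?_
    li := fun c0 c h => ?_
    map_line := ?_
    map_succ := fun i => ?_
    map_zero_ne := ?_
    inj := fun u P hP h => ?_
    gen := fun y => ?_
    fin := hfd }⟩, finrank_eq hd hF hind hℓ hℓ0⟩
  · obtain ⟨r, s, hrs⟩ := (IntermediateField.mem_adjoin_range_iff k (lamc F) (c : L)).1 c.2
    have hco : ∀ p : MvPolynomial (Fin n) k,
        ((aeval (fun i => (⟨lamc F i, IntermediateField.subset_adjoin _ _ ⟨i, rfl⟩⟩ : K0c F)) p : K0c F) : L) = aeval (lamc F) p :=
      fun p => MvPolynomial.comp_aeval_apply _ (K0c F).val p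
    by_cases hs : aeval (lamc F) s = 0
    · refine ⟨0, 1, by simp, Subtype.ext ?_⟩
      rw [hs, div_zero] at hrs
      simp [hrs]
    · refine ⟨r, s, fun h => hs (by rw [← hco, h]; rfl), Subtype.ext ?_⟩
      change (c : L) * _ = _
      rw [hco, hco, hrs, div_mul_cancel₀ _ hs]
  · have h' := congrArg (fun z : K0c F => (z : L)) h
    simp only [AddMemClass.coe_add, AddSubmonoidClass.coe_finsetSum, MulMemClass.coe_mul, ZeroMemClass.coe_zero] at h'
    have hz : C c0 * F 0 + ∑ i, C (c i) * F i.succ = (0 : R) := by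
      refine hinj ?_
      rw [map_zero, ← mul_eq_zero_of_left h' (ι (F 0)), add_mul, Finset.sum_mul, map_add, map_sum, map_mul]
      congr 1
      congr 1
      funext i
      simp only [lamc]
      rw [mul_assoc, div_mul_cancel₀ _ hF0, map_mul, ← algebraMap_eq, ← IsScalarTower.algebraMap_apply]; rfl
    have hl := Fintype.linearIndependent_iff.1 hind.linearIndependent (Fin.cons c0 c) (by
      simpa [Fin.sum_univ_succ, smul_eq_C_mul] using hz)
    exact ⟨hl 0, fun i => hl i.succ⟩
  all_goals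
    have hco : ∀ p : R, ((aeval (fun j => (⟨xc ℓ j, xc_mem j⟩ : L0c F ℓ)) p : L0c F ℓ) : L) = aeval (xc ℓ) p :=
      fun p => MvPolynomial.comp_aeval_apply _ ((L0c F ℓ).val.restrictScalars k) p
  · refine Subtype.ext ((hco ℓ).trans ?_)
    have := iota_eq hℓ0 hℓ
    rw [pow_one] at this
    exact (mul_eq_left₀ hl0).1 this.symm
  · refine Subtype.ext ((hco _).trans ?_)
    rw [MulMemClass.coe_mul, hco]
    change aeval (xc ℓ) (F i.succ) = ι (F i.succ) / ι (F 0) * aeval (xc ℓ) (F 0)
    rw [iota_eq hℓ0 (hF 0), iota_eq hℓ0 (hF i.succ)]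
    field_simp
  · exact fun h => hφ0 (by rw [phi, ← hco, h]; rfl)
  · exact hinj (by rw [iota_eq hℓ0 hP, ← hco, h, map_zero]; simp)
  · obtain ⟨P, hP⟩ := hgenL y y.2
    exact ⟨P, Subtype.ext ((MvPolynomial.comp_aeval_apply _ (L0c F ℓ).val P).trans hP)⟩

end

end Groth.L03.Frobun
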