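import Groth.Agent.L03.Frobun.KoszulHtp
import Mathlib.Algebra.Category.ModuleCat.ProjectiveDimension
import Mathlib.Algebra.Category.ModuleCat.Projective
import Mathlib.Algebra.Homology.ShortComplex.ModuleCat
import Mathlib.RingTheory.Nakayama
import Mathlib.RingTheory.Noetherian.Basic
import Mathlib.RingTheory.LocalRing.MaximalIdeal.Basic

/-!
# The periodic resolution and the impossibility of finite projective dimension
-/

set_option autoImplicit false
universe u

open CategoryTheory

namespace Groth.L03.Frobun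

variable {A : Type u} [CommRing A] (G b : ℕ → A) (n : ℕ) (f g : A)

/-- the alternating coefficient -/
def ccoef (j : ℕ) : A := if j % 2 = 1 then f else g

theorem ccoef_mul (j : ℕ) : ccoef f g j * ccoef f g (j + 1) = f * g := by
  rcases Nat.mod_two_eq_zero_or_one j with h | h
  · rw [ccoef, ccoef, if_neg (by omega), if_pos (by omega), mul_comm]
  · rw [ccoef, ccoef, if_pos h, if_neg (by omega)]

theorem ccoef_add_two (j : ℕ) : ccoef f g (j + 2) = ccoef f g j := by
  simp only [ccoef, Nat.add_mod_right]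

theorem ccoef_one : ccoef f g 1 = f := if_pos rfl

/-- the differential of the periodic resolution -/
def Dt : (ℕ → KI n → A) →ₗ[A] (ℕ → KI n → A) :=
  LinearMap.pi fun j => kd G n ∘ₗ LinearMap.proj j + ccoef f g (j + 1) • (ktau n ∘ₗ LinearMap.proj (j + 1)) +
    ks b n ∘ₗ LinearMap.proj (j + 2)

theorem Dt_apply (x : ℕ → KI n → A) (j : ℕ) :
    Dt G b n f g x j = kd G n (x j) + ccoef f g (j + 1) • ktau n (x (j + 1)) + ks b n (x (j + 2)) := rfl

/-- projection to total degree `m` -/
def tproj (m : ℕ) : (ℕ → KI n → A) →ₗ[A] (ℕ → KI n → A) :=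
  LinearMap.pi fun j => if j ≤ m then kproj n (m - j) ∘ₗ LinearMap.proj j else 0

theorem tproj_le {m j : ℕ} (h : j ≤ m) (x : ℕ → KI n → A) : tproj n m x j = kproj n (m - j) (x j) := by
  simp [tproj, h]

theorem tproj_gt {m j : ℕ} (h : m < j) (x : ℕ → KI n → A) : tproj n m x j = 0 := by
  simp [tproj, not_le.2 h]

theorem kproj_kproj (m : ℕ) (x : KI n → A) : kproj n m (kproj n m x) = kproj n m x := by
  funext i; simp only [kproj_apply]; split_ifs <;> rfl

theorem kproj_ktau (m : ℕ) (x : KI n → A) : ktau n (kproj n m x) = kproj n m (ktau n x) := by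
  funext i; simp only [kproj_apply, ktau_apply]; split_ifs <;> simp

theorem tproj_tproj (m : ℕ) (x : ℕ → KI n → A) : tproj n m (tproj n m x) = tproj n m x := by
  funext j
  rcases Nat.lt_or_ge m j with h | h
  · rw [tproj_gt n h, tproj_gt n h]
  · rw [tproj_le n h, tproj_le n h, kproj_kproj]

theorem Dt_tproj (m : ℕ) (x : ℕ → KI n → A) :
    Dt G b n f g (tproj n (m + 1) x) = tproj n m (Dt G b n f g x) := by
  funext j
  rw [Dt_apply]
  rcases Nat.lt_or_ge m j with h | h
  · rw [tproj_gt n h, tproj_gt n (show m + 1 < j + 1 by omega), tproj_gt n (show m + 1 < j + 2 by omega)]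
    rcases Nat.lt_or_ge (m + 1) j with h' | h'
    · simp [tproj_gt n h']
    · rw [tproj_le n h', show m + 1 - j = 0 by omega, kd_kproj_zero]; simp
  · rw [tproj_le n h, Dt_apply, map_add, map_add, map_smul, tproj_le n (show j ≤ m + 1 by omega),
      tproj_le n (show j + 1 ≤ m + 1 by omega), show m + 1 - j = (m - j) + 1 by omega, kd_kproj,
      show m + 1 - (j + 1) = m - j by omega, kproj_ktau]
    congr 1
    rcases Nat.eq_or_lt_of_le h with rfl | h'
    · rw [tproj_gt n (show j + 1 < j + 2 by omega), Nat.sub_self, ks_kproj_zero, map_zero]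
    · rw [tproj_le n (show j + 2 ≤ m + 1 by omega), ks_kproj, show m + 1 - (j + 2) + 1 = m - j by omega]

variable {G b n f g} (hrel : ∑ i ∈ Finset.range n, G i * b i = -(f * g))

include hrel in
theorem Dt_Dt (x : ℕ → KI n → A) : Dt G b n f g (Dt G b n f g x) = 0 := by
  funext j
  simp only [Dt_apply, map_add, map_smul, kd_kd, ks_ks, kd_ktau, ks_ktau, smul_add, smul_neg, smul_smul,
    ktau_ktau, Pi.zero_apply]
  have h1 := kd_ks G b n (x (j + 2))
  rw [hrel] at h1
  have h2 : ccoef f g (j + 1) * ccoef f g (j + 1 + 1) = f * g := ccoef_mul f g (j + 1)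
  rw [h2, show j + 2 + 1 = j + 3 from rfl, show j + 1 + 2 = j + 3 from rfl, show j + 1 + 1 = j + 2 from rfl,
    show ccoef f g (j + 3) = ccoef f g (j + 1) from ccoef_add_two f g (j + 1)]
  linear_combination (norm := module) h1

/-- the annihilator conditions -/
def CAnn (G : ℕ → A) (n : ℕ) (f g : A) : Prop :=
  (∀ a, a * f ∈ kideal G n → a ∈ kideal G n ⊔ Ideal.span {g}) ∧
    ∀ a, a * g ∈ kideal G n → a ∈ kideal G n ⊔ Ideal.span {f}

theorem exists_of_Dt_cycle_aux (hreg : KReg G n) (hann : CAnn G n f g) (hrel : ∑ i ∈ Finset.range n, G i * b i = -(f * g))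
    (m : ℕ) : ∀ (J : ℕ) (x : ℕ → KI n → A), J ≤ m + 2 → (∀ j, J ≤ j → x j = 0) → tproj n (m + 1) x = x →
      Dt G b n f g x = 0 → ∃ y, Dt G b n f g y = x := by
  classical
  intro J
  induction J with
  | zero => exact fun x _ hx _ _ => ⟨0, by rw [map_zero]; funext j; exact (hx j (Nat.zero_le j)).symm⟩
  | succ J ih =>
    intro x hJ hx hP hD
    have hJ' : J ≤ m + 1 := by omega
    have hPJ : kproj n (m + 1 - J) (x J) = x J := by rw [← tproj_le n hJ', hP]
    have hxJ : kd G n (x J) = 0 := by
      have h := congrFun hD J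
      rw [Dt_apply, hx (J + 1) le_rfl, hx (J + 2) (by omega)] at h
      simpa using h
    -- it suffices to kill the top slot
    suffices ∃ z, (∀ j, J + 1 ≤ j → Dt G b n f g z j = 0) ∧ Dt G b n f g z J = x J ∧
        tproj n (m + 1) (Dt G b n f g z) = Dt G b n f g z by
      obtain ⟨z, hz1, hz2, hz3⟩ := this
      obtain ⟨y, hy⟩ := ih (x - Dt G b n f g z) (by omega) (fun j hj => by
          rcases Nat.eq_or_lt_of_le hj with rfl | hj'
          · simp [hz2]
          · simp [hx j hj', hz1 j hj'])
        (by rw [map_sub, hP, hz3]) (by rw [map_sub, hD, Dt_Dt hrel, sub_zero])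
      exact ⟨y + z, by rw [map_add, hy, sub_add_cancel]⟩
    suffices ∃ z, (∀ j, J + 1 ≤ j → Dt G b n f g (tproj n (m + 2) z) j = 0) ∧ Dt G b n f g (tproj n (m + 2) z) J = x J by
      obtain ⟨z, hz1, hz2⟩ := this
      exact ⟨_, hz1, hz2, by rw [Dt_tproj, tproj_tproj]⟩
    rcases Nat.lt_or_ge J (m + 1) with hlt | hge
    · obtain ⟨q, hq⟩ : ∃ q, m + 1 - J = q + 1 := ⟨m - J, by omega⟩
      rw [hq] at hPJ
      obtain ⟨y, hy1, hy2⟩ := exists_of_cycle_pos G hreg hPJ hxJ
      have hz : tproj n (m + 2) (Pi.single J y) = Pi.single J y := by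
        funext j
        rcases Nat.lt_or_ge (m + 2) j with h | h
        · rw [tproj_gt n h, Pi.single_eq_of_ne (by omega)]
        · rw [tproj_le n h]
          rcases eq_or_ne j J with rfl | hne
          · rw [Pi.single_eq_same, show m + 2 - j = q + 2 by omega, hy1]
          · rw [Pi.single_eq_of_ne hne, map_zero]
      refine ⟨Pi.single J y, fun j hj => ?_, ?_⟩
      · rw [hz, Dt_apply, Pi.single_eq_of_ne (by omega), Pi.single_eq_of_ne (by omega), Pi.single_eq_of_ne (by omega)]
        simp
      · rw [hz, Dt_apply, Pi.single_eq_same, Pi.single_eq_of_ne (by omega), Pi.single_eq_of_ne (by omega)]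
        simpa using hy2
    · obtain rfl : J = m + 1 := by omega
      rw [Nat.sub_self] at hPJ
      have hxe : x (m + 1) = kvec n (x (m + 1) (kbase n)) := eq_kvec fun i hi => by
        rw [← hPJ, kproj_apply, if_neg hi]
      set a := x (m + 1) (kbase n)
      have ha : a ∈ kideal G n ⊔ Ideal.span {ccoef f g (m + 2)} := by
        have h := congrFun (congrFun hD m) (kbase n)
        rw [Dt_apply, hxe, ktau_kvec, hx (m + 2) (by omega)] at h
        simp only [map_zero, add_zero, Pi.add_apply, Pi.smul_apply, smul_eq_mul, kvec_base, Pi.zero_apply] at h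
        have hmem : a * ccoef f g (m + 1) ∈ kideal G n := by
          rw [show a * ccoef f g (m + 1) = -(kd G n (x m) (kbase n)) by linear_combination h]
          exact neg_mem (kd_base_mem G n _)
        rcases Nat.mod_two_eq_zero_or_one m with hm | hm
        · rw [ccoef, if_pos (by omega)] at hmem
          rw [ccoef, if_neg (by omega)]
          exact hann.1 a hmem
        · rw [ccoef, if_neg (by omega)] at hmem
          rw [ccoef, if_pos (by omega)]
          exact hann.2 a hmem
      obtain ⟨r, hr, s, hs, hrs⟩ := Submodule.mem_sup.1 ha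
      obtain ⟨q, rfl⟩ := Ideal.mem_span_singleton'.1 hs
      obtain ⟨y, hy⟩ := kideal_le_range G n hr
      let z : ℕ → KI n → A := Pi.single (m + 1) (kproj n 1 y) + Pi.single (m + 2) (kvec n q)
      have hkq : kproj n 0 (kvec n q) = kvec n q := by
        funext i; rw [kproj_apply]; split_ifs with h
        · rfl
        · exact (kvec_of_ne q h).symm
      have hkr : kproj n 0 (kvec n r) = kvec n r := by
        funext i; rw [kproj_apply]; split_ifs with h
        · rfl
        · exact (kvec_of_ne r h).symm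
      have hz : tproj n (m + 2) z = z := by
        funext j
        rcases Nat.lt_or_ge (m + 2) j with h | h
        · rw [tproj_gt n h]; simp [z, Pi.single_eq_of_ne (show j ≠ m + 1 by omega), Pi.single_eq_of_ne (show j ≠ m + 2 by omega)]
        · rw [tproj_le n h]
          rcases eq_or_ne j (m + 1) with rfl | h1
          · simp [z, show m + 2 - (m + 1) = 1 by omega, kproj_kproj]
          rcases eq_or_ne j (m + 2) with rfl | h2
          · simp [z, hkq]
          · simp [z, Pi.single_eq_of_ne h1, Pi.single_eq_of_ne h2]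
      refine ⟨z, fun j hj => ?_, ?_⟩
      · rw [hz, Dt_apply]
        rcases eq_or_ne j (m + 2) with rfl | h2
        · simp [z, Pi.single_eq_of_ne, kd_kvec]
        · simp [z, Pi.single_eq_of_ne (show j ≠ m + 1 by omega), Pi.single_eq_of_ne h2,
            Pi.single_eq_of_ne (show j + 1 ≠ m + 1 by omega), Pi.single_eq_of_ne (show j + 1 ≠ m + 2 by omega),
            Pi.single_eq_of_ne (show j + 2 ≠ m + 1 by omega), Pi.single_eq_of_ne (show j + 2 ≠ m + 2 by omega)]
      · rw [hz, Dt_apply, hxe]
        simp only [z, Pi.add_apply, Pi.single_eq_same, Pi.single_eq_of_ne (show m + 1 ≠ m + 2 by omega),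
          Pi.single_eq_of_ne (show m + 1 + 1 ≠ m + 1 by omega), Pi.single_eq_of_ne (show m + 1 + 2 ≠ m + 1 by omega),
          Pi.single_eq_of_ne (show m + 1 + 2 ≠ m + 2 by omega), add_zero, zero_add, map_zero, ktau_kvec,
          show m + 1 + 1 = m + 2 from rfl]
        rw [kd_kproj, hy, hkr, ← map_smul, ← map_add, ← hrs, smul_eq_mul, mul_comm]

theorem exists_of_Dt_cycle (hreg : KReg G n) (hann : CAnn G n f g) (hrel : ∑ i ∈ Finset.range n, G i * b i = -(f * g))
    {m : ℕ} {x : ℕ → KI n → A} (hP : tproj n (m + 1) x = x) (hD : Dt G b n f g x = 0) :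
    ∃ y, tproj n (m + 2) y = y ∧ Dt G b n f g y = x := by
  obtain ⟨y, hy⟩ := exists_of_Dt_cycle_aux hreg hann hrel m (m + 2) x le_rfl
    (fun j hj => by rw [← hP, tproj_gt n (by omega)]) hP hD
  exact ⟨tproj n (m + 2) y, tproj_tproj n _ y, by rw [Dt_tproj, hy, hP]⟩

/-- the index of a basis of total degree `m` -/
abbrev TI (n m : ℕ) := {p : Fin (m + 1) × KI n // (p.1 : ℕ) + kdeg n p.2 = m}

/-- inclusion of the degree `m` part -/
def tinc (n m : ℕ) : (TI n m → A) →ₗ[A] (ℕ → KI n → A) where
  toFun v j i := if h : j ≤ m ∧ j + kdeg n i = m then v ⟨(⟨j, Nat.lt_succ_of_le h.1⟩, i), h.2⟩ else 0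
  map_add' v w := by funext j i; dsimp; split_ifs <;> simp
  map_smul' t v := by funext j i; dsimp; split_ifs <;> simp

/-- restriction to the degree `m` part -/
def tres (n m : ℕ) : (ℕ → KI n → A) →ₗ[A] (TI n m → A) where
  toFun x p := x (p.1.1 : ℕ) p.1.2
  map_add' _ _ := rfl
  map_smul' _ _ := rfl

theorem tres_tinc (n m : ℕ) (v : TI n m → A) : tres n m (tinc n m v) = v := by
  funext ⟨⟨j, i⟩, h⟩
  show (if h : (j : ℕ) ≤ m ∧ (j : ℕ) + kdeg n i = m then _ else 0) = _
  rw [dif_pos ⟨Nat.le_of_lt_succ j.2, h⟩]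

theorem tinc_tres (n m : ℕ) (x : ℕ → KI n → A) : tinc n m (tres n m x) = tproj n m x := by
  funext j i
  show (if h : j ≤ m ∧ j + kdeg n i = m then x j i else 0) = _
  rcases Nat.lt_or_ge m j with hj | hj
  · rw [tproj_gt n hj, dif_neg (fun h => absurd h.1 (not_le.2 hj))]; rfl
  · rw [tproj_le n hj, kproj_apply]
    by_cases h : kdeg n i = m - j
    · rw [if_pos h, dif_pos ⟨hj, by omega⟩]
    · rw [if_neg h, dif_neg (fun h' => h (by omega))]

theorem tproj_tinc (n m : ℕ) (v : TI n m → A) : tproj n m (tinc n m v) = tinc n m v := by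
  rw [← tinc_tres, tres_tinc]

variable (G b n f g) in
/-- the differential between finite free modules -/
def tD (m : ℕ) : (TI n (m + 1) → A) →ₗ[A] (TI n m → A) := tres n m ∘ₗ Dt G b n f g ∘ₗ tinc n (m + 1)

theorem tinc_tD (m : ℕ) (v : TI n (m + 1) → A) :
    tinc n m (tD G b n f g m v) = Dt G b n f g (tinc n (m + 1) v) := by
  show tinc n m (tres n m (Dt G b n f g (tinc n (m + 1) v))) = _
  rw [tinc_tres, ← Dt_tproj, tproj_tinc]

theorem ker_tD (hreg : KReg G n) (hann : CAnn G n f g) (hrel : ∑ i ∈ Finset.range n, G i * b i = -(f * g)) (m : ℕ) :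
    LinearMap.ker (tD G b n f g m) = LinearMap.range (tD G b n f g (m + 1)) := by
  have hinj : ∀ m, Function.Injective (tinc (A := A) n m) := fun m => Function.LeftInverse.injective (tres_tinc n m)
  ext v
  rw [LinearMap.mem_ker, LinearMap.mem_range]
  constructor
  · intro hv
    have hD : Dt G b n f g (tinc n (m + 1) v) = 0 := by rw [← tinc_tD, hv, map_zero]
    obtain ⟨y, hy, hy'⟩ := exists_of_Dt_cycle hreg hann hrel (tproj_tinc n (m + 1) v) hD
    refine ⟨tres n (m + 2) y, hinj _ ?_⟩
    rw [tinc_tD, tinc_tres, hy, hy']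
  · rintro ⟨w, rfl⟩
    refine hinj _ ?_
    rw [tinc_tD, tinc_tD, Dt_Dt hrel, map_zero]

/-- No module has such a minimal periodic resolution over a ring of finite global dimension. -/
theorem false_of_periodic [IsLocalRing A] [IsNoetherianRing A] (t : ℕ)
    (hgl : ∀ M : ModuleCat.{u} A, HasProjectiveDimensionLT M (t + 1)) (hreg : KReg G n) (hann : CAnn G n f g)
    (hrel : ∑ i ∈ Finset.range n, G i * b i = -(f * g))
    (hG : ∀ i < n, G i ∈ IsLocalRing.maximalIdeal A) (hb : ∀ i < n, b i ∈ IsLocalRing.maximalIdeal A)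
    (hf : f ∈ IsLocalRing.maximalIdeal A) (hg : g ∈ IsLocalRing.maximalIdeal A) (hf0 : f ≠ 0) (hg0 : g ≠ 0) : False := by
  classical
  let R : ℕ → ModuleCat.{u} A := fun m => ModuleCat.of A (LinearMap.range (tD G b n f g m))
  have hR : ∀ s m, HasProjectiveDimensionLT (R m) (s + 2) → HasProjectiveDimensionLT (R (m + 1)) (s + 1) := by
    intro s m h
    let φ := (tD G b n f g m).rangeRestrict
    have hS := LinearMap.shortExact_shortComplexKer (f := φ) (LinearMap.surjective_rangeRestrict _)
    haveI : Projective φ.shortComplexKer.X₂ := by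
      show Projective (ModuleCat.of A (TI n (m + 1) → A))
      exact (IsProjective.iff_projective (R := A) (P := TI n (m + 1) → A)).1 inferInstance
    have h1 := (hS.hasProjectiveDimensionLT_X₃_iff s inferInstance).1 h
    haveI : HasProjectiveDimensionLT (ModuleCat.of A (LinearMap.ker φ)) (s + 1) := h1
    have e : LinearMap.ker φ = LinearMap.range (tD G b n f g (m + 1)) :=
      (LinearMap.ker_rangeRestrict _).trans (ker_tD hreg hann hrel m)
    exact hasProjectiveDimensionLT_of_iso (LinearEquiv.ofEq _ _ e).toModuleIso (s + 1)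
  have hdesc : ∀ j s, j + s = t → HasProjectiveDimensionLT (R j) (s + 1) := by
    intro j
    induction j with
    | zero => intro s hs; obtain rfl : s = t := by omega
              exact hgl _
    | succ j ih => exact fun s hs => hR s j (ih (s + 1) (by omega))
  haveI h1 : HasProjectiveDimensionLT (R t) 1 := hdesc t 0 (by omega)
  haveI hproj : Module.Projective A (LinearMap.range (tD G b n f g t)) := by
    rw [← projective_iff_hasProjectiveDimensionLT_one] at h1
    exact (IsProjective.iff_projective (R := A) (P := LinearMap.range (tD G b n f g t))).2 h1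
  set φ := (tD G b n f g t).rangeRestrict
  obtain ⟨σ, hσ⟩ := Module.projective_lifting_property φ LinearMap.id (LinearMap.surjective_rangeRestrict _)
  set S := LinearMap.range (tD G b n f g (t + 1)) with hS
  let π : (TI n (t + 1) → A) →ₗ[A] (TI n (t + 1) → A) := LinearMap.id - σ ∘ₗ φ
  have hker : S = LinearMap.ker φ := ((LinearMap.ker_rangeRestrict _).trans (ker_tD hreg hann hrel t)).symm
  have hπ1 : ∀ v, π v ∈ S := fun v => by
    rw [hker, LinearMap.mem_ker]
    have h := congrFun (congrArg DFunLike.coe hσ) (φ v)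
    simp only [LinearMap.coe_comp, Function.comp_apply, LinearMap.id_coe, id_eq] at h
    simp [π, h]
  have hπ2 : ∀ v ∈ S, π v = v := fun v hv => by
    have hv' : φ v = 0 := by rw [hker] at hv; exact hv
    simp [π, hv']
  have hent : ∀ v ∈ S, ∀ p, v p ∈ IsLocalRing.maximalIdeal A := by
    rintro _ ⟨w, rfl⟩ p
    show Dt G b n f g (tinc n (t + 2) w) (p.1.1 : ℕ) p.1.2 ∈ _
    rw [Dt_apply]
    refine add_mem (add_mem (kd_mem G n hG _ _) (Ideal.mul_mem_right _ _ ?_)) (ks_mem b n hb _ _)
    unfold ccoef; split_ifs <;> assumption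
  have hle : S ≤ IsLocalRing.maximalIdeal A • S := fun v hv => by
    rw [← hπ2 v hv, pi_eq_sum_univ v, map_sum]
    refine Submodule.sum_mem _ fun p _ => ?_
    rw [map_smul]
    exact Submodule.smul_mem_smul (hent v hv p) (hπ1 _)
  have hbot : S = ⊥ := Submodule.eq_bot_of_le_smul_of_le_jacobson_bot _ S (IsNoetherian.noetherian S) hle
    (IsLocalRing.maximalIdeal_le_jacobson ⊥)
  -- but the top slot maps nontrivially
  let v : TI n (t + 2) → A := tres n (t + 2) (Pi.single (t + 2) (kvec n 1))
  have hv : tinc n (t + 2) v = Pi.single (t + 2) (kvec n (1 : A)) := by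
    rw [tinc_tres]
    funext j i
    rcases Nat.lt_or_ge (t + 2) j with h | h
    · rw [tproj_gt n h, Pi.single_eq_of_ne (by omega)]
    · rw [tproj_le n h]
      rcases eq_or_ne j (t + 2) with rfl | hne
      · rw [Pi.single_eq_same, Nat.sub_self, kproj_apply]
        split_ifs with hi
        · rfl
        · exact (kvec_of_ne _ hi).symm
      · rw [Pi.single_eq_of_ne hne, map_zero]
  have h0 : tD G b n f g (t + 1) v = 0 := by
    have : tD G b n f g (t + 1) v ∈ S := ⟨v, rfl⟩
    rwa [hbot, Submodule.mem_bot] at this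
  have h2 := congrFun (congrFun (congrArg (tinc n (t + 1)) h0) (t + 1)) (kbase n)
  rw [tinc_tD, hv, Dt_apply, Pi.single_eq_same, Pi.single_eq_of_ne (show t + 1 ≠ t + 2 by omega),
    Pi.single_eq_of_ne (show t + 1 + 2 ≠ t + 2 by omega), ktau_kvec] at h2
  simp only [map_zero, zero_add, add_zero, Pi.smul_apply, smul_eq_mul, kvec_base, mul_one, Pi.zero_apply] at h2
  unfold ccoef at h2
  split_ifs at h2
  · exact hf0 h2
  · exact hg0 h2

end Groth.L03.Frobun
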