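import Groth.Agent.L03.Frobun.Graded
import Mathlib.FieldTheory.IsAlgClosed.Basic
import Mathlib.GroupTheory.CosetCover
import Mathlib.RingTheory.Localization.FractionRing

/-!
# A general hyperplane and the points of a finite projective scheme
-/

set_option autoImplicit false

namespace Groth.L03.Frobun

open MvPolynomial Groth.L12.GrCI

universe u

variable {k : Type u} [Field k] {σ : Type} [Fintype σ]

theorem two_le_dim {A : Type*} [CommRing A] {J q P M : Ideal A} [q.IsPrime] [P.IsPrime] [M.IsPrime]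
    (hq : J ≤ q) (h1 : q < P) (h2 : P < M) : 2 ≤ ringKrullDim (A ⧸ J) := by
  have mkp : ∀ (Q : Ideal A) [Q.IsPrime], J ≤ Q → (Q.map (Ideal.Quotient.mk J)).IsPrime := fun Q _ hQ =>
    Ideal.map_isPrime_of_surjective Ideal.Quotient.mk_surjective (by rwa [Ideal.mk_ker])
  have back : ∀ (Q : Ideal A), J ≤ Q → (Q.map (Ideal.Quotient.mk J)).comap (Ideal.Quotient.mk J) = Q := fun Q hQ => by
    rw [Ideal.comap_map_of_surjective _ Ideal.Quotient.mk_surjective, ← RingHom.ker_eq_comap_bot, Ideal.mk_ker,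
      sup_eq_left.2 hQ]
  have lt : ∀ (Q Q' : Ideal A), J ≤ Q → Q < Q' → Q.map (Ideal.Quotient.mk J) < Q'.map (Ideal.Quotient.mk J) :=
    fun Q Q' hQ hlt => lt_of_le_of_ne (Ideal.map_mono hlt.le) fun he => hlt.ne (by
      rw [← back Q hQ, he, back Q' (hQ.trans hlt.le)])
  let a : PrimeSpectrum (A ⧸ J) := ⟨q.map (Ideal.Quotient.mk J), mkp q hq⟩
  let b : PrimeSpectrum (A ⧸ J) := ⟨P.map (Ideal.Quotient.mk J), mkp P (hq.trans h1.le)⟩
  let c : PrimeSpectrum (A ⧸ J) := ⟨M.map (Ideal.Quotient.mk J), mkp M ((hq.trans h1.le).trans h2.le)⟩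
  have hab : a < b := lt q P hq h1
  have hbc : b < c := lt P M (hq.trans h1.le) h2
  exact Order.LTSeries.length_le_krullDim (LTSeries.mk 2 ![a, b, c] (Fin.strictMono_iff_lt_succ.2 fun i => by
    fin_cases i
    · exact hab
    · exact hbc))

theorem exists_linear [Infinite k] (J : Ideal (MvPolynomial σ k)) (hJ : Homog (1 : σ → ℕ) J)
    (hdim : ringKrullDim (MvPolynomial σ k ⧸ J) ≤ 1) [Nonempty σ] :
    ∃ ℓ : MvPolynomial σ k, ℓ.IsHomogeneous 1 ∧ ℓ ≠ 0 ∧ (∃ N, ∀ j, X j ^ N ∈ J ⊔ Ideal.span {ℓ}) ∧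
      ∀ q ∈ J.minimalPrimes, ℓ ∈ q → ∀ j, X j ∈ q := by
  classical
  let L : (σ → k) →ₗ[k] MvPolynomial σ k := Fintype.linearCombination k fun j => (X j : MvPolynomial σ k)
  have hLs : ∀ j, L (Pi.single j 1) = X j := fun j => by simp [L]
  have hfin : J.minimalPrimes.Finite := Ideal.finite_minimalPrimes_of_isNoetherianRing _ J
  let bad : Finset (Submodule k (σ → k)) := insert ⊥ ((hfin.toFinset.filter fun q => ¬ ∀ j, X j ∈ q).image
    fun q => (q.restrictScalars k).comap L)
  obtain ⟨v, hv⟩ : ∃ v, ∀ S ∈ bad, v ∉ S := by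
    by_contra hcon
    push Not at hcon
    have htop : (⊤ : Submodule k (σ → k)) ∉ bad := by
      simp only [bad, Finset.mem_insert, Finset.mem_image, Finset.mem_filter, not_or, not_exists, not_and]
      refine ⟨top_ne_bot, fun q hq h => hq.2 fun j => ?_⟩
      have : Pi.single j 1 ∈ (q.restrictScalars k).comap L := h ▸ Submodule.mem_top
      simpa [hLs] using this
    refine Subspace.biUnion_ne_univ_of_top_notMem htop (Set.eq_univ_of_forall fun x => ?_)
    obtain ⟨S, hS, hx⟩ := hcon x
    exact Set.mem_iUnion₂.2 ⟨S, hS, hx⟩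
  refine ⟨L v, ?_, ?_, ?_, ?_⟩
  · simp only [L, Fintype.linearCombination_apply]
    exact IsHomogeneous.sum _ _ _ fun j _ => by rw [smul_eq_C_mul]; exact isHomogeneous_C_mul_X _ j
  · intro h0
    refine hv ⊥ (Finset.mem_insert_self _ _) ((Submodule.mem_bot k).2 (funext fun j => ?_))
    have := congrArg (coeff (Finsupp.single j 1)) h0
    simpa [L, Fintype.linearCombination_apply, coeff_sum, coeff_smul, coeff_X, Finsupp.single_left_inj] using this
  rotate_left
  · intro q hq hℓ
    by_contra hne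
    exact hv _ (Finset.mem_insert_of_mem (Finset.mem_image.2
      ⟨q, Finset.mem_filter.2 ⟨hfin.mem_toFinset.2 hq, hne⟩, rfl⟩)) hℓ
  · have hhom : Homog (1 : σ → ℕ) (J ⊔ Ideal.span {L v}) := by
      intro x hx u
      obtain ⟨y, hy, z, hz, rfl⟩ := Submodule.mem_sup.1 hx
      rw [map_add]
      refine Ideal.add_mem _ (Ideal.mem_sup_left (hJ y hy u)) (Ideal.mem_sup_right ?_)
      refine homog_span (fun s hs => ⟨1, ?_⟩) z hz u
      rw [Set.mem_singleton_iff.1 hs]
      simp only [L, Fintype.linearCombination_apply]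
      exact IsHomogeneous.sum _ _ _ fun j _ => by rw [smul_eq_C_mul]; exact isHomogeneous_C_mul_X _ j
    refine exists_pow_mem_of_finite hhom (finite_quotient_of_isMaximal _ fun P hP hle => ?_)
    obtain ⟨q, hq, hqP⟩ := Ideal.exists_minimalPrimes_le (le_sup_left.trans hle)
    have := hq.1.1
    by_cases hall : ∀ j, X j ∈ q
    · exact isMaximal_of_X_mem hP.ne_top fun j => hqP (hall j)
    · have hℓq : L v ∉ q := fun h => hv _ (Finset.mem_insert_of_mem (Finset.mem_image.2
        ⟨q, Finset.mem_filter.2 ⟨hfin.mem_toFinset.2 hq, hall⟩, rfl⟩)) h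
      have hlt : q < P := lt_of_le_of_ne hqP fun h => hℓq (h ▸ hle (Ideal.mem_sup_right (Ideal.mem_span_singleton_self _)))
      by_contra hmax
      obtain ⟨M, hM, hPM⟩ := P.exists_le_maximal hP.ne_top
      have := hM.isPrime
      have h2 := (two_le_dim hq.1.2 hlt (lt_of_le_of_ne hPM fun h => hmax (h ▸ hM))).trans hdim
      exact absurd h2 (by decide)

theorem exists_point [IsAlgClosed k] (J : Ideal (MvPolynomial σ k)) (hJ : Homog (1 : σ → ℕ) J) {δ m₀ : ℕ}
    (hδ : ∀ u, m₀ ≤ u → Module.finrank k (piece (1 : σ → ℕ) J u) = δ) {ℓ : MvPolynomial σ k}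
    (hℓ : ℓ.IsHomogeneous 1) {q : Ideal (MvPolynomial σ k)} (hq : q ∈ J.minimalPrimes) (hℓq : ℓ ∉ q) :
    ∃ a : σ → k, eval a ℓ = 1 ∧ q = RingHom.ker (pt a) := by
  classical
  have := hq.1.1
  let Q := MvPolynomial σ k ⧸ q
  have : IsDomain Q := Ideal.Quotient.isDomain q
  let E := FractionRing Q
  let _ : Field E := inferInstanceAs (Field (FractionRing Q))
  let π : MvPolynomial σ k →ₐ[k] E := (IsScalarTower.toAlgHom k Q E).comp (Ideal.Quotient.mkₐ k q)
  have hπ : ∀ f, π f = 0 ↔ f ∈ q := fun f => by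
    simp [π, Ideal.Quotient.eq_zero_iff_mem, Q]
  have hl : π ℓ ≠ 0 := fun h => hℓq ((hπ ℓ).1 h)
  have halg : ∀ j, ∃ a : k, π (X j) = π ℓ * algebraMap k E a := by
    intro j
    set u := m₀ + δ with hu
    let v : Fin (δ + 1) → piece (1 : σ → ℕ) q u := fun i => ⟨Ideal.Quotient.mk q (ℓ ^ (u - i) * X j ^ (i : ℕ)),
      mem_piece.2 ⟨_, by
        have h := (hℓ.pow (u - i)).mul (isHomogeneous_X_pow (R := k) j (i : ℕ))
        rwa [one_mul, Nat.sub_add_cancel (show (i : ℕ) ≤ u by omega)] at h, rfl⟩⟩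
    have := piece_fd (F := k) (w := (1 : σ → ℕ)) (fun _ => one_pos) q u
    have hle : Module.finrank k (piece (1 : σ → ℕ) q u) ≤ δ := by
      have hfd : FiniteDimensional k (homogeneousSubmodule σ k u) := Module.Finite.iff_fg.2 (homogeneousSubmodule_fg σ k u)
      have hm : Module.finrank k ↥(Submodule.restrictScalars k J ⊓ homogeneousSubmodule σ k u) ≤
          Module.finrank k ↥(Submodule.restrictScalars k q ⊓ homogeneousSubmodule σ k u) := by
        have : FiniteDimensional k ↥(Submodule.restrictScalars k q ⊓ homogeneousSubmodule σ k u) :=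
          Submodule.finiteDimensional_of_le inf_le_right
        exact Submodule.finrank_mono (inf_le_inf_right _ hq.1.2)
      have h1 := finrank_piece_add J u
      have h2 := finrank_piece_add q u
      rw [hδ u (by omega)] at h1
      omega
    obtain ⟨c, hc, i₀, hi₀⟩ : ∃ c : Fin (δ + 1) → k, ∑ i, c i • v i = 0 ∧ ∃ i, c i ≠ 0 := by
      refine Fintype.not_linearIndependent_iff.1 fun hli => ?_
      have := hli.fintype_card_le_finrank
      simp at this
      omega
    let p : Polynomial k := ∑ i : Fin (δ + 1), Polynomial.monomial (i : ℕ) (c i)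
    have hp0 : p ≠ 0 := fun h => hi₀ (by
      have := congrArg (fun r => r.coeff (i₀ : ℕ)) h
      simpa [p, Polynomial.coeff_monomial, Fin.val_inj] using this)
    have ht : Polynomial.aeval (π (X j) / π ℓ) p = 0 := by
      have h0 : ∑ i, c i • π (ℓ ^ (u - i) * X j ^ (i : ℕ)) = 0 := by
        have := congrArg (fun z : piece (1 : σ → ℕ) q u => IsScalarTower.toAlgHom k Q E z.1) hc
        simpa [v, π, Q, Submodule.coe_sum] using this
      have : π ℓ ^ u * Polynomial.aeval (π (X j) / π ℓ) p = 0 := by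
        rw [← h0, map_sum, Finset.mul_sum]
        refine Finset.sum_congr rfl fun i _ => ?_
        rw [Polynomial.aeval_monomial, Algebra.smul_def, map_mul, map_pow, map_pow,
          ← pow_sub_mul_pow (π ℓ) (show (i : ℕ) ≤ u by omega), mul_assoc,
          show π ℓ ^ (i : ℕ) * (algebraMap k E (c i) * (π (X j) / π ℓ) ^ (i : ℕ)) = algebraMap k E (c i) * π (X j) ^ (i : ℕ) by
            rw [mul_left_comm, ← mul_pow, mul_div_cancel₀ _ hl]]
        ring
      exact (mul_eq_zero.1 this).resolve_left (pow_ne_zero _ hl)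
    have hint : IsIntegral k (π (X j) / π ℓ) := (IsAlgebraic.isIntegral ⟨p, hp0, ht⟩)
    obtain ⟨a, ha⟩ := minpoly.mem_range_of_degree_eq_one k (π (X j) / π ℓ)
      (IsAlgClosed.degree_eq_one_of_irreducible k (minpoly.irreducible hint))
    exact ⟨a, by rw [ha, mul_div_cancel₀ _ hl]⟩
  choose a ha using halg
  have hev : ∀ {f : MvPolynomial σ k} {w : ℕ}, f.IsHomogeneous w → π f = π ℓ ^ w * algebraMap k E (eval a f) := by
    intro f w hf
    conv_lhs => rw [MvPolynomial.aeval_unique π, show (π ∘ X) = fun j => π ℓ * algebraMap k E (a j) from funext ha,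
      aeval_mul_of_isHomogeneous hf]
    congr 1
    exact (MvPolynomial.aeval_algebraMap_apply (A := k) (B := E) a f)
  have hone : eval a ℓ = 1 := by
    have := hev hℓ
    rw [pow_one] at this
    refine (algebraMap k E).injective (mul_left_cancel₀ hl ?_)
    rw [map_one, mul_one, ← this]
  refine ⟨a, hone, Ideal.ext fun f => ?_⟩
  rw [RingHom.mem_ker, pt_eq_zero_iff]
  constructor
  · intro hf w
    have h := (hπ _).2 (homog_minimalPrime hJ hq f hf w)
    rw [show weightedHomogeneousComponent (1 : σ → ℕ) w f = homogeneousComponent w f from rfl,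
      hev (homogeneousComponent_isHomogeneous w f)] at h
    exact (algebraMap k E).injective (by rw [map_zero]; exact (mul_eq_zero.1 h).resolve_left (pow_ne_zero _ hl))
  · intro hf
    rw [← sum_homogeneousComponent f]
    refine Ideal.sum_mem _ fun w _ => (hπ _).1 ?_
    rw [hev (homogeneousComponent_isHomogeneous w f), hf w, map_zero, mul_zero]

end Groth.L03.Frobun
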